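import Cfsg.Agent.OM.Defs
import Cfsg.Agent.H649.Transport
import Cfsg.Agent.H614.AltBlk
import Cfsg.Agent.H592.Knorr
import Cfsg.Agent.S0907

/-!
# OM (S4894), alternating groups: sums over characteristic sets of `p`-regular elements (helper19)
-/

set_option autoImplicit false
set_option linter.unusedSectionVars false

namespace Cfsg.Agent.OM.Alt

open Cfsg Subgroup Cfsg.Agent.Characters.Core
open scoped ComplexConjugate

universe u

section defs

variable {X : Type u} [Group X]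

/-- the sum over a set -/
noncomputable def ks (K : Set X) (θ : X → ℂ) : ℂ := ∑ᶠ x ∈ K, θ x

/-- the sums over characteristic sets of `p`-regular elements are proportional to the degrees -/
def OneA (p : ℕ) (b : Set (IrrCharacter X)) : Prop :=
  ∀ K : Set X, (∀ α : MulAut X, ∀ x ∈ K, α x ∈ K) → (∀ x ∈ K, IsPRegular p x) →
    ∀ θ ∈ b, ∀ θ' ∈ b, ks K θ * (θ' : X → ℂ) 1 = ks K θ' * (θ : X → ℂ) 1

variable (X) in
/-- the statement for one group -/
def Cy (p : ℕ) (M : Ideal AlgInt) : Prop :=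
  ∀ b : Set (IrrCharacter X), IsPBlock M b → (∀ θ ∈ b, ∀ z ∈ center X, (θ : X → ℂ) z = (θ : X → ℂ) 1 → z = 1) →
    OneA p b → ∀ D : Subgroup X, IsDefectGroup p M b D → IsCyclic D

theorem ks_equiv {Y : Type*} (e : X ≃ Y) {K : Set X} {L : Set Y} (h : ∀ x, x ∈ K ↔ e x ∈ L) (θ : Y → ℂ) :
    ∑ᶠ x ∈ K, θ (e x) = ∑ᶠ y ∈ L, θ y :=
  finsum_mem_eq_of_bijOn e ⟨fun x hx => (h x).1 hx, e.injective.injOn, fun y hy =>
    ⟨e.symm y, (h _).2 (by simpa using hy), by simp⟩⟩ fun _ _ => rfl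

theorem ks_aut {K : Set X} (hK : ∀ α : MulAut X, ∀ x ∈ K, α x ∈ K) (α : MulAut X) (θ : X → ℂ) :
    ks K (fun x => θ (α x)) = ks K θ :=
  ks_equiv α.toEquiv (fun x => ⟨hK α x, fun h => by simpa using hK α⁻¹ _ h⟩) θ

theorem ks_eq [Fintype X] (K : Set X) [DecidablePred (· ∈ K)] (θ : X → ℂ) :
    ks K θ = ∑ x, if x ∈ K then θ x else 0 := by
  rw [ks, finsum_mem_def, finsum_eq_sum_of_fintype]
  exact Finset.sum_congr rfl fun x _ => Set.indicator_apply _ _ _

theorem ks_const [Finite X] {K : Set X} {θ : X → ℂ} {c : ℂ} (h : ∀ x ∈ K, θ x = c) : ks K θ = K.ncard * c := by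
  rw [ks, finsum_mem_congr rfl h, finsum_mem_eq_finite_toFinset_sum _ (Set.toFinite K), Finset.sum_const,
    nsmul_eq_mul, Set.ncard_eq_toFinset_card K]

end defs

theorem oneA_of_one {X : Type} [Group X] [Finite X] {p : ℕ} {Γ : Subgroup (MulAut X)} {b : Set (IrrCharacter X)}
    (h : One p Γ b) : OneA p b := by
  classical
  intro K hK hr θ hθ θ' hθ'
  have := Fintype.ofFinite X
  have : Finite (MulAut X) := Finite.of_injective (fun α : MulAut X => (α : X → X)) DFunLike.coe_injective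
  have := Fintype.ofFinite Γ
  have key : ∀ φ : X → ℂ, ks K (fun x => ∑ᶠ α : Γ, φ (α.1 x)) = Fintype.card Γ * ks K φ := by
    intro φ
    have h1 : ∀ α : Γ, ks K φ = ∑ x, if x ∈ K then φ (α.1 x) else 0 := fun α => by rw [← ks_aut hK α.1, ks_eq]
    rw [← Finset.card_univ, ← nsmul_eq_mul, ← Finset.sum_const, Finset.sum_congr rfl fun α _ => h1 α, Finset.sum_comm,
      ks_eq]
    refine Finset.sum_congr rfl fun x _ => ?_
    rw [finsum_eq_sum_of_fintype]
    split_ifs <;> simp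
  have h0 : (Fintype.card Γ : ℂ) ≠ 0 := Nat.cast_ne_zero.2 Fintype.card_ne_zero
  refine mul_left_cancel₀ h0 ?_
  rw [← mul_assoc, ← mul_assoc, ← key, ← key, ks_eq, ks_eq, Finset.sum_mul, Finset.sum_mul]
  refine Finset.sum_congr rfl fun x _ => ?_
  split_ifs with hx
  · exact h θ hθ θ' hθ' x (hr x hx)
  · simp

theorem Cy.of_equiv {p : ℕ} {M : Ideal AlgInt} {H : Type*} {K : Type*} [Group H] [Group K] (h : Cy H p M)
    (f : H ≃* K) : Cy K p M := by
  intro b hb hf h1 D hD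
  have h2 := h (H649.blkMap f.symm b) (H649.isPBlock_blkMap hb) ?_ ?_ (D.map f.symm.toMonoidHom)
    (H649.isDefectGroup_blkMap hD)
  · have e : D ≃* (D.map f.symm.toMonoidHom : Subgroup H) := D.equivMapOfInjective _ f.symm.injective
    exact isCyclic_of_surjective _ e.symm.surjective
  · rintro _ ⟨θ, hθ, rfl⟩ z hz e
    rw [H649.irrMap_one, H649.irrMap_apply] at e
    refine f.map_eq_one_iff.1 (hf θ hθ (f z) (mem_center_iff.2 fun g => ?_) e)
    obtain ⟨x, rfl⟩ := f.surjective g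
    rw [← map_mul, ← map_mul, mem_center_iff.1 hz]
  · rintro L hL hr _ ⟨θ, hθ, rfl⟩ _ ⟨θ', hθ', rfl⟩
    have h3 := h1 (f.symm ⁻¹' L) (fun α x hx => by
      simpa using hL ((f.trans α).trans f.symm) _ hx) (fun x hx => (H649.isPRegular_map_iff f.symm p x).1 (hr _ hx))
      θ hθ θ' hθ'
    have h4 : ∀ φ : IrrCharacter K, ks L (H649.irrMap f.symm φ : H → ℂ) = ks (f.symm ⁻¹' L) φ := fun φ =>
      ks_equiv f.toEquiv (fun x => by simp) _
    rwa [h4, h4, H649.irrMap_one, H649.irrMap_one]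

/-- Clifford -/
theorem ks_over {G : Type u} [Group G] [Fintype G] (N : Subgroup G) [N.Normal] [Fintype N] {χ : G → ℂ}
    (hχ : IsIrrCharacter G χ) {θ : N → ℂ} (hθ : IsIrrCharacter N θ) (h : classInner (fun n : N => χ n) θ ≠ 0)
    {K : Set N} (hK : ∀ g : G, ∀ x, x ∈ K ↔ MulAut.conjNormal g x ∈ K) :
    ks K (fun n => χ n) * θ 1 = ks K θ * χ 1 := by
  classical
  obtain ⟨S, -, hc, he⟩ := Blocks.PrimeNormal.restrict_eq N hχ hθ h
  generalize classInner (fun n : N => χ n) θ = e at he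
  have h1 : χ 1 = e * (S.card * θ 1) := by
    have := congrFun he 1
    rw [Pi.smul_apply, Finset.sum_apply, Finset.sum_congr rfl (g := fun _ => θ 1) fun η hη => by
      obtain ⟨g, hg⟩ := hc η hη
      rw [hg, Function.comp_apply, map_one]] at this
    simpa using this
  have h2 : ks K (fun n => χ n) = e * (S.card * ks K θ) := by
    rw [he, ← nsmul_eq_mul, ← Finset.sum_const, ← Finset.sum_congr rfl (f := fun η : IrrCharacter N => ks K η) fun η hη => by
      obtain ⟨g, hg⟩ := hc η hη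
      rw [hg]
      exact ks_equiv (MulAut.conjNormal g : MulAut N).toEquiv (hK g) θ]
    simp only [ks_eq]
    rw [Finset.sum_comm, Finset.mul_sum]
    refine Finset.sum_congr rfl fun x _ => ?_
    split_ifs <;> simp
  rw [h1, h2]
  ring

section blk

variable {X : Type u} [Group X] {p : ℕ} [hp : Fact p.Prime] {M : Ideal AlgInt} {b : Set (IrrCharacter X)}

/-- a function supported on the `p`-singular elements -/
theorem sum_sing [Fintype X] (hM : IsPModular p M) (hb : IsPBlock M b) {Φ : X → ℂ} (h : ∀ y, IsPRegular p y → Φ y = 0)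
    {x : X} (hx : IsPRegular p x) : ∑ᶠ θ ∈ b, (θ : X → ℂ) x * ∑ y, Φ y * conj ((θ : X → ℂ) y) = 0 := by
  classical
  have := finite_irr (G := X)
  have h1 : ∀ y, Φ y * ∑ θ ∈ b.toFinite.toFinset, (θ : X → ℂ) x * conj ((θ : X → ℂ) y) = 0 := fun y => by
    by_cases hy : IsPRegular p y
    · rw [h y hy, zero_mul]
    · rw [← finsum_mem_eq_finite_toFinset_sum, S0907.result p M hM b hb x y hx (not_not.1 hy), mul_zero]
  rw [finsum_mem_eq_finite_toFinset_sum _ b.toFinite, ← Finset.sum_eq_zero fun y (_ : y ∈ Finset.univ) => h1 y]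
  simp only [Finset.mul_sum]
  rw [Finset.sum_comm]
  exact Finset.sum_congr rfl fun _ _ => Finset.sum_congr rfl fun _ _ => by ring

/-- the partner -/
theorem partner [Fintype X] (hM : IsPModular p M) (hb : IsPBlock M b) {Φ : X → ℂ} (h : ∀ y, IsPRegular p y → Φ y = 0)
    {c : IrrCharacter X → ℚ} (hc : ∀ θ ∈ b, (θ : X → ℂ) 1 * ∑ y, Φ y * conj ((θ : X → ℂ) y) = c θ)
    {θ : IrrCharacter X} (hθ : θ ∈ b) (h0 : c θ ≠ 0) : ∃ θ' ∈ b, c θ * c θ' < 0 := by
  classical
  have := finite_irr (G := X)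
  have h1 := sum_sing hM hb h (x := 1) (by simpa [IsPRegular] using hp.out.one_lt.ne')
  rw [finsum_mem_congr rfl hc, finsum_mem_eq_finite_toFinset_sum _ b.toFinite, ← Rat.cast_sum, Rat.cast_eq_zero] at h1
  by_contra hn
  push Not at hn
  have h2 : ∑ θ' ∈ b.toFinite.toFinset, c θ * c θ' = 0 := by rw [← Finset.mul_sum, h1, mul_zero]
  have h3 := (Finset.sum_eq_zero_iff_of_nonneg fun θ' h' => hn θ' (by simpa using h')).1 h2 θ (by simpa using hθ)
  exact h0 (mul_self_eq_zero.1 h3)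

end blk

end Cfsg.Agent.OM.Alt
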