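import Mathlib

/-!
# OM (S4894), alternating groups: moments of the residues of `∏ (z - v) / (z - u)` (helper19)
-/

set_option autoImplicit false

namespace Cfsg.Agent.OM.Alt

open Finset

variable {ι : Type*} [DecidableEq ι]

/-- the residue at `u a` -/
def rs (s : Finset ι) (u v : ι → ℚ) (a : ι) : ℚ := (u a - v a) * ∏ b ∈ s.erase a, (u a - v b) / (u a - u b)

/-- the moments of the residues -/
def Rk (s : Finset ι) (u v : ι → ℚ) (k : ℕ) : ℚ := ∑ a ∈ s, rs s u v a * u a ^ k

/-- differences of power sums -/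
def Dk (s : Finset ι) (u v : ι → ℚ) (k : ℕ) : ℚ := ∑ a ∈ s, (v a ^ k - u a ^ k)

variable {s : Finset ι} {u v : ι → ℚ}

theorem R0 (hv : Set.InjOn u s) : Rk s u v 0 = - Dk s u v 1 := by
  rcases s.eq_empty_or_nonempty with rfl | hne
  · simp [Rk, Dk]
  have hc : 0 < #s := hne.card_pos
  let P : Polynomial ℚ := ∏ k ∈ s, (Polynomial.X - Polynomial.C (v k)) - ∏ k ∈ s, (Polynomial.X - Polynomial.C (u k))
  have hm : ∀ f : ι → ℚ, (∏ k ∈ s, (Polynomial.X - Polynomial.C (f k))).degree = ((#s : ℕ) : WithBot ℕ) := by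
    intro f
    rw [Polynomial.degree_prod]
    simp
  have hP : P.degree < #s := by
    have h1 := Polynomial.degree_sub_lt_left (p := ∏ k ∈ s, (Polynomial.X - Polynomial.C (v k)))
      (q := ∏ k ∈ s, (Polynomial.X - Polynomial.C (u k))) (by rw [hm, hm])
      (Polynomial.Monic.ne_zero (Polynomial.monic_prod_X_sub_C _ _))
      (by rw [(Polynomial.monic_prod_X_sub_C _ _).leadingCoeff, (Polynomial.monic_prod_X_sub_C _ _).leadingCoeff])
    rwa [hm] at h1
  have h1 := Lagrange.coeff_eq_sum hv hP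
  have h2 : P.coeff (#s - 1) = - Dk s u v 1 := by
    show (_ - _ : Polynomial ℚ).coeff _ = _
    rw [Polynomial.coeff_sub, Polynomial.prod_X_sub_C_coeff_card_pred _ _ hc,
      Polynomial.prod_X_sub_C_coeff_card_pred _ _ hc, Dk]
    simp only [pow_one, Finset.sum_sub_distrib]
    ring
  have h3 : ∀ x ∈ s, P.eval (u x) / ∏ j ∈ s.erase x, (u x - u j) = rs s u v x * u x ^ 0 := by
    intro x hx
    have e1 : P.eval (u x) = (u x - v x) * ∏ j ∈ s.erase x, (u x - v j) := by
      show (_ - _ : Polynomial ℚ).eval _ = _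
      rw [Polynomial.eval_sub, Polynomial.eval_prod, Polynomial.eval_prod]
      simp only [Polynomial.eval_sub, Polynomial.eval_X, Polynomial.eval_C]
      have e0 : ∏ k ∈ s, (u x - u k) = 0 := Finset.prod_eq_zero hx (sub_self _)
      rw [e0, sub_zero, ← Finset.mul_prod_erase _ _ hx]
    rw [e1, mul_div_assoc, ← Finset.prod_div_distrib, pow_zero, mul_one, rs]
  rw [h2, Finset.sum_congr rfl h3] at h1
  exact h1.symm

theorem R_insert {c : ι} (hc : c ∉ s) (hv : Set.InjOn u (insert c s : Finset ι)) (k : ℕ) :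
    Rk (insert c s) u v (k + 1) = u c * Rk (insert c s) u v k + Rk s u v (k + 1) - v c * Rk s u v k := by
  have key : ∀ a ∈ s, rs (insert c s) u v a * (u a - u c) = rs s u v a * (u a - v c) := by
    intro a ha
    have hac : a ≠ c := fun h => hc (h ▸ ha)
    have h1 : u a - u c ≠ 0 := sub_ne_zero.2 fun h => hac (hv (by simp [ha]) (by simp) h)
    rw [rs, rs, Finset.erase_insert_of_ne hac.symm, Finset.prod_insert fun h => hc (Finset.mem_of_mem_erase h)]
    field_simp
  unfold Rk
  rw [Finset.sum_insert hc, Finset.sum_insert hc, mul_add, Finset.mul_sum, Finset.mul_sum, add_assoc, add_sub_assoc,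
    ← Finset.sum_add_distrib, ← Finset.sum_sub_distrib]
  congr 1
  · ring
  · refine Finset.sum_congr rfl fun a ha => ?_
    linear_combination u a ^ k * key a ha

theorem D_insert {c : ι} (hc : c ∉ s) (k : ℕ) : Dk (insert c s) u v k = v c ^ k - u c ^ k + Dk s u v k :=
  Finset.sum_insert hc

theorem R123 (hv : Set.InjOn u s) :
    Rk s u v 1 = (Dk s u v 1 ^ 2 - Dk s u v 2) / 2 ∧
    Rk s u v 2 = - Dk s u v 3 / 3 + Dk s u v 1 * Dk s u v 2 / 2 - Dk s u v 1 ^ 3 / 6 ∧
    Rk s u v 3 = - Dk s u v 4 / 4 + Dk s u v 1 * Dk s u v 3 / 3 + Dk s u v 2 ^ 2 / 8 -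
      Dk s u v 1 ^ 2 * Dk s u v 2 / 4 + Dk s u v 1 ^ 4 / 24 := by
  induction s using Finset.induction_on with
  | empty => simp [Rk, Dk]
  | insert c s hc ih =>
    have hs : Set.InjOn u s := hv.mono (by simp)
    obtain ⟨h1, h2, h3⟩ := ih hs
    have e0 := R0 (v := v) hs
    have f0 := R0 (v := v) hv
    have f1 := R_insert (v := v) hc hv 0
    have f2 := R_insert (v := v) hc hv 1
    have f3 := R_insert (v := v) hc hv 2
    simp only [D_insert hc, zero_add, Nat.reduceAdd] at *
    rw [f0, h1, e0] at f1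
    rw [f1, h2, h1] at f2
    rw [f2, h3, h2] at f3
    refine ⟨f1.trans ?_, f2.trans ?_, f3.trans ?_⟩ <;> ring

end Cfsg.Agent.OM.Alt
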