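import Cfsg.Agent.H614.Height
import Cfsg.Agent.OM.Alt.Lag

/-!
# OM (S4894), alternating groups: the values at `3`-cycles and at double transpositions (helper19)
-/

set_option autoImplicit false

namespace Cfsg.Agent.OM.Alt

open Finset Cfsg.Agent.H614

variable {m : ℕ}

theorem prod_split (j : Fin m) (f : Fin m → Fin m → ℚ) :
    ∏ i, ∏ k ∈ Ioi i, f i k =
      (∏ i ∈ univ.erase j, ∏ k ∈ (Ioi i).erase j, f i k) * (∏ i ∈ Iio j, f i j) * ∏ k ∈ Ioi j, f j k := by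
  rw [← Finset.prod_erase_mul _ _ (mem_univ j)]
  congr 1
  have h1 : ∏ i ∈ Iio j, f i j = ∏ i ∈ univ.erase j, if i < j then f i j else 1 := by
    rw [← Finset.prod_filter]
    refine Finset.prod_congr ?_ fun _ _ => rfl
    ext i
    simp only [mem_Iio, mem_filter, mem_erase, mem_univ, and_true]
    exact ⟨fun h => ⟨h.ne, h⟩, fun h => h.2⟩
  rw [h1, ← Finset.prod_mul_distrib]
  refine Finset.prod_congr rfl fun i _ => ?_
  split_ifs with h
  · rw [Finset.prod_erase_mul _ _ (mem_Ioi.2 h)]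
  · rw [mul_one, Finset.erase_eq_of_notMem (by simpa using h)]

theorem prod_erase_split (j : Fin m) (g : Fin m → ℚ) :
    ∏ i ∈ univ.erase j, g i = (∏ i ∈ Iio j, g i) * ∏ k ∈ Ioi j, g k := by
  rw [← Finset.prod_union (by rw [Finset.disjoint_left]; intro a h1 h2; simp at h1 h2; omega)]
  refine Finset.prod_congr ?_ fun _ _ => rfl
  ext i
  simp

theorem DD_update (β : Fin m → ℕ) (j : Fin m) (y : ℕ) :
    (DD (Function.update β j y) : ℚ) * ∏ i ∈ univ.erase j, ((β j : ℚ) - β i) =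
      DD β * ∏ i ∈ univ.erase j, ((y : ℚ) - β i) := by
  have key : ∀ γ : Fin m → ℕ, (∀ i, i ≠ j → γ i = β i) → (DD γ : ℚ) =
      (∏ i ∈ univ.erase j, ∏ k ∈ (Ioi i).erase j, ((β k : ℚ) - β i)) * (-1) ^ #(Ioi j) *
        ∏ i ∈ univ.erase j, ((γ j : ℚ) - β i) := by
    intro γ hγ
    rw [DD_eq_prod]
    push_cast
    rw [prod_split j, prod_erase_split j fun i => (γ j : ℚ) - β i]
    have e1 : ∏ i ∈ univ.erase j, ∏ k ∈ (Ioi i).erase j, ((γ k : ℚ) - γ i) =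
        ∏ i ∈ univ.erase j, ∏ k ∈ (Ioi i).erase j, ((β k : ℚ) - β i) :=
      Finset.prod_congr rfl fun i hi => Finset.prod_congr rfl fun k hk => by
        rw [hγ i (Finset.ne_of_mem_erase hi), hγ k (Finset.ne_of_mem_erase hk)]
    have e2 : ∏ i ∈ Iio j, ((γ j : ℚ) - γ i) = ∏ i ∈ Iio j, ((γ j : ℚ) - β i) :=
      Finset.prod_congr rfl fun i hi => by rw [hγ i (mem_Iio.1 hi).ne]
    have e3 : ∏ i ∈ Ioi j, ((γ i : ℚ) - γ j) = (-1) ^ #(Ioi j) * ∏ i ∈ Ioi j, ((γ j : ℚ) - β i) := by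
      rw [← Finset.prod_neg]
      exact Finset.prod_congr rfl fun i hi => by rw [hγ i (mem_Ioi.1 hi).ne', neg_sub]
    rw [e1, e2, e3]
    ring
  rw [key β fun _ _ => rfl, key (Function.update β j y) fun i hi => Function.update_of_ne hi _ _, Function.update_self]
  ring

/-- the nodes -/
def uu (β : Fin m → ℕ) : Fin m → ℚ := fun i => β i

/-- the shifted nodes -/
def vv (β : Fin m → ℕ) (r : ℕ) : Fin m → ℚ := fun i => β i + r

theorem step {n r : ℕ} (hr : r ≤ n) {β : Fin m → ℕ} (hβ : Function.Injective β)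
    (hs : ∑ i, β i = n + ∑ i : Fin m, (i : ℕ)) (j : Fin m) :
    ((if r ≤ β j then FM (Multiset.replicate (n - r) 1) (dn β j r) else 0 : ℤ) : ℚ) * n.descFactorial r * (-r) =
      FM (Multiset.replicate n 1) β * (rs univ (uu β) (vv β r) j * (β j).descFactorial r) := by
  split_ifs with h
  swap
  · rw [Nat.descFactorial_of_lt (not_le.1 h)]
    simp
  have h1 := FM_ones_mul n β hs
  have h2 := FM_ones_mul (n - r) (dn β j r) (by have := sum_dn β j h; omega)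
  have h3 := DD_update β j (β j - r)
  have h4 : ∏ i, ((β i).factorial : ℚ) = (∏ i, ((dn β j r i).factorial : ℚ)) * (β j).descFactorial r := by
    rw [← Finset.prod_erase_mul _ _ (mem_univ j), ← Finset.prod_erase_mul _ _ (mem_univ j), dn_self, mul_assoc,
      ← Nat.cast_mul, Nat.factorial_mul_descFactorial h]
    congr 1
    exact Finset.prod_congr rfl fun i hi => by rw [dn_ne β r (Finset.ne_of_mem_erase hi)]
  have h5 : (n.factorial : ℚ) = (n - r).factorial * n.descFactorial r := by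
    rw [← Nat.cast_mul, Nat.factorial_mul_descFactorial hr]
  have h6 : ∏ i ∈ univ.erase j, ((β j : ℚ) - β i) ≠ 0 := Finset.prod_ne_zero_iff.2 fun i hi =>
    sub_ne_zero.2 fun e => Finset.ne_of_mem_erase hi (hβ (Nat.cast_injective e)).symm
  have h7 : rs univ (uu β) (vv β r) j * ∏ i ∈ univ.erase j, ((β j : ℚ) - β i) =
      -r * ∏ i ∈ univ.erase j, (((β j - r : ℕ) : ℚ) - β i) := by
    rw [rs, Finset.prod_div_distrib, mul_assoc]
    simp only [uu, vv]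
    rw [div_mul_cancel₀ _ h6, Nat.cast_sub h]
    congr 1
    · ring
    · exact Finset.prod_congr rfl fun i _ => by ring
  have h8 : ∏ i, ((dn β j r i).factorial : ℚ) ≠ 0 := Finset.prod_ne_zero_iff.2 fun i _ => by positivity
  have h1' := congrArg (Int.cast : ℤ → ℚ) h1
  have h2' := congrArg (Int.cast : ℤ → ℚ) h2
  push_cast at h1' h2'
  rw [h4, h5] at h1'
  refine mul_right_cancel₀ (mul_ne_zero h6 h8) ?_
  change (DD (dn β j r) : ℚ) * _ = _ at h3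
  generalize (∏ i, ((dn β j r i).factorial : ℚ)) = A at *
  generalize (∏ i ∈ univ.erase j, ((β j : ℚ) - β i)) = B at *
  generalize (∏ i ∈ univ.erase j, (((β j - r : ℕ) : ℚ) - β i)) = C at *
  linear_combination (-(r : ℚ) * n.descFactorial r * B) * h2' - (r : ℚ) * n.descFactorial r * (n - r).factorial * h3 -
    (FM (Multiset.replicate n 1) β * (β j).descFactorial r * A : ℚ) * h7 + (r : ℚ) * C * h1'

/-- power sums -/
def Pw (β : Fin m → ℕ) (k : ℕ) : ℚ := ∑ i, (β i : ℚ) ^ k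

theorem Pw_up (β : Fin m → ℕ) (j : Fin m) (r k : ℕ) :
    Pw (up β j r) k = Pw β k + (((β j : ℚ) + r) ^ k - (β j : ℚ) ^ k) := by
  unfold Pw
  rw [← Finset.sum_erase_add _ _ (mem_univ j), ← Finset.sum_erase_add _ _ (mem_univ j), up_self,
    Finset.sum_congr rfl fun i hi => by rw [up_ne β r (Finset.ne_of_mem_erase hi)]]
  push_cast
  ring

theorem Pw_dn (β : Fin m → ℕ) (j : Fin m) {r : ℕ} (h : r ≤ β j) (k : ℕ) :
    Pw (dn β j r) k = Pw β k + (((β j : ℚ) - r) ^ k - (β j : ℚ) ^ k) := by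
  have := Pw_up (dn β j r) j r k
  rw [up_dn_self β j h, dn_self, Nat.cast_sub h] at this
  rw [this]
  ring

theorem Dk_eq (β : Fin m → ℕ) (r : ℕ) :
    Dk univ (uu β) (vv β r) 1 = r * m ∧ Dk univ (uu β) (vv β r) 2 = 2 * r * Pw β 1 + r ^ 2 * m ∧
    Dk univ (uu β) (vv β r) 3 = 3 * r * Pw β 2 + 3 * r ^ 2 * Pw β 1 + r ^ 3 * m ∧
    Dk univ (uu β) (vv β r) 4 = 4 * r * Pw β 3 + 6 * r ^ 2 * Pw β 2 + 4 * r ^ 3 * Pw β 1 + r ^ 4 * m := by
  have h : (m : ℚ) = ∑ _i : Fin m, (1 : ℚ) := by simp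
  rw [h]
  simp only [Dk, Pw, uu, vv, Finset.mul_sum, ← Finset.sum_add_distrib]
  refine ⟨?_, ?_, ?_, ?_⟩ <;> exact Finset.sum_congr rfl fun i _ => by ring

theorem desc2 (b : ℕ) : (b.descFactorial 2 : ℚ) = b ^ 2 - b := by
  rcases b with _ | b
  · simp
  · simp [Nat.descFactorial]; ring

theorem desc3 (b : ℕ) : (b.descFactorial 3 : ℚ) = b ^ 3 - 3 * b ^ 2 + 2 * b := by
  rcases b with _ | _ | b
  · simp
  · simp [Nat.descFactorial]; norm_num
  · simp [Nat.descFactorial]; ring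

theorem Pw_one {n : ℕ} {β : Fin m → ℕ} (hs : ∑ i, β i = n + ∑ i : Fin m, (i : ℕ)) :
    Pw β 1 = ((n + ∑ i : Fin m, (i : ℕ) : ℕ) : ℚ) := by
  rw [← hs, Pw]
  simp

theorem inj_uu {β : Fin m → ℕ} (hβ : Function.Injective β) : Set.InjOn (uu β) (univ : Finset (Fin m)) :=
  fun _ _ _ _ h => hβ (Nat.cast_injective h)

/-- `3`-cycles -/
theorem val3 (m : ℕ) {n : ℕ} (hn : 3 ≤ n) : ∃ d : ℚ, ∀ β : Fin m → ℕ, Function.Injective β →
    ∑ i, β i = n + ∑ i : Fin m, (i : ℕ) → (FM (3 ::ₘ Multiset.replicate (n - 3) 1) β : ℚ) * n.descFactorial 3 =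
      FM (Multiset.replicate n 1) β * (Pw β 3 + (3 / 2 - 3 * m) * Pw β 2 + d) := by
  generalize hP : ((n + ∑ i : Fin m, (i : ℕ) : ℕ) : ℚ) = P
  refine ⟨-(1 / 3) * ((-(108 * P + 81 * m) / 4 + 3 * m * (27 * P + 27 * m) / 3 + (6 * P + 9 * m) ^ 2 / 8 -
    (3 * m) ^ 2 * (6 * P + 9 * m) / 4 + (3 * m) ^ 4 / 24) - 3 * (-(27 * P + 27 * m) / 3 + 3 * m * (6 * P + 9 * m) / 2 -
    (3 * m) ^ 3 / 6) + 2 * (((3 * m) ^ 2 - (6 * P + 9 * m)) / 2)), fun β hβ hs => ?_⟩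
  have h1 := Finset.sum_congr rfl fun j (_ : j ∈ univ) => step hn hβ hs j
  rw [← Finset.sum_mul, ← Finset.sum_mul, ← Int.cast_sum, ← FM_cons, ← Finset.mul_sum] at h1
  have h2 : ∑ j, rs univ (uu β) (vv β 3) j * ((β j).descFactorial 3 : ℚ) =
      Rk univ (uu β) (vv β 3) 3 - 3 * Rk univ (uu β) (vv β 3) 2 + 2 * Rk univ (uu β) (vv β 3) 1 := by
    simp only [Rk, Finset.mul_sum, ← Finset.sum_sub_distrib, ← Finset.sum_add_distrib]
    exact Finset.sum_congr rfl fun j _ => by rw [desc3, uu]; ring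
  obtain ⟨r1, r2, r3⟩ := R123 (v := vv β 3) (inj_uu hβ)
  obtain ⟨d1, d2, d3, d4⟩ := Dk_eq β 3
  rw [h2, r1, r2, r3, d1, d2, d3, d4, Pw_one hs, hP] at h1
  push_cast at h1
  linear_combination (-(1 / 3) : ℚ) * h1

/-- transpositions -/
theorem val2 (m : ℕ) {n : ℕ} (hn : 2 ≤ n) : ∃ d : ℚ, ∀ β : Fin m → ℕ,
    ∑ i, β i = n + ∑ i : Fin m, (i : ℕ) → (FM (2 ::ₘ Multiset.replicate (n - 2) 1) β : ℚ) * n.descFactorial 2 =
      FM (Multiset.replicate n 1) β * (Pw β 2 + d) := by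
  generalize hP : ((n + ∑ i : Fin m, (i : ℕ) : ℕ) : ℚ) = P
  refine ⟨-(1 / 2) * ((-(12 * P + 8 * m) / 3 + 2 * m * (4 * P + 4 * m) / 2 - (2 * m) ^ 3 / 6) -
    (((2 * m) ^ 2 - (4 * P + 4 * m)) / 2)), fun β hs => ?_⟩
  by_cases hβ : Function.Injective β
  swap
  · rw [FM_eq_zero_of_not_injective _ hβ, FM_eq_zero_of_not_injective _ hβ]
    simp
  have h1 := Finset.sum_congr rfl fun j (_ : j ∈ univ) => step hn hβ hs j
  rw [← Finset.sum_mul, ← Finset.sum_mul, ← Int.cast_sum, ← FM_cons, ← Finset.mul_sum] at h1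
  have h2 : ∑ j, rs univ (uu β) (vv β 2) j * ((β j).descFactorial 2 : ℚ) =
      Rk univ (uu β) (vv β 2) 2 - Rk univ (uu β) (vv β 2) 1 := by
    simp only [Rk, ← Finset.sum_sub_distrib]
    exact Finset.sum_congr rfl fun j _ => by rw [desc2, uu]; ring
  obtain ⟨r1, r2, -⟩ := R123 (v := vv β 2) (inj_uu hβ)
  obtain ⟨d1, d2, d3, -⟩ := Dk_eq β 2
  rw [h2, r1, r2, d1, d2, d3, Pw_one hs, hP] at h1
  push_cast at h1
  linear_combination (-(1 / 2) : ℚ) * h1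

/-- double transpositions -/
theorem val22 (m : ℕ) {n : ℕ} (hn : 4 ≤ n) : ∃ a d : ℚ, ∀ β : Fin m → ℕ, Function.Injective β →
    ∑ i, β i = n + ∑ i : Fin m, (i : ℕ) →
    (FM (2 ::ₘ 2 ::ₘ Multiset.replicate (n - 4) 1) β : ℚ) * (n.descFactorial 2 * (n - 2).descFactorial 2) =
      FM (Multiset.replicate n 1) β * (Pw β 2 ^ 2 - 4 * Pw β 3 + a * Pw β 2 + d) := by
  obtain ⟨c, hc⟩ := val2 m (n := n - 2) (by omega)
  generalize hP : ((n + ∑ i : Fin m, (i : ℕ) : ℕ) : ℚ) = P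
  let e : ℚ := -(1 / 2) * ((-(12 * P + 8 * m) / 3 + 2 * m * (4 * P + 4 * m) / 2 - (2 * m) ^ 3 / 6) -
    (((2 * m) ^ 2 - (4 * P + 4 * m)) / 2))
  refine ⟨c + 4 + e - 8 + 8 * m, (c + 4) * e + 2 * ((-(32 * P + 16 * m) / 4 + 2 * m * (12 * P + 8 * m) / 3 +
    (4 * P + 4 * m) ^ 2 / 8 - (2 * m) ^ 2 * (4 * P + 4 * m) / 4 + (2 * m) ^ 4 / 24) -
    (-(12 * P + 8 * m) / 3 + 2 * m * (4 * P + 4 * m) / 2 - (2 * m) ^ 3 / 6)), fun β hβ hs => ?_⟩
  have h0 : ∀ j, ((if 2 ≤ β j then FM (2 ::ₘ Multiset.replicate (n - 4) 1) (dn β j 2) else 0 : ℤ) : ℚ) *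
      (n.descFactorial 2 * (n - 2).descFactorial 2) * (-2) = FM (Multiset.replicate n 1) β *
        (rs univ (uu β) (vv β 2) j * (β j).descFactorial 2 * (Pw β 2 + c + 4 - 4 * β j)) := by
    intro j
    have h1 := step (r := 2) (by omega) hβ hs j
    by_cases h : 2 ≤ β j
    · rw [if_pos h] at h1 ⊢
      have h2 := hc (dn β j 2) (by have := sum_dn β j h; omega)
      rw [Pw_dn β j h, show n - 2 - 2 = n - 4 by omega] at h2
      push_cast at h1 h2 ⊢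
      linear_combination (-2 * (n.descFactorial 2 : ℚ)) * h2 + (Pw β 2 + c + 4 - 4 * β j) * h1
    · rw [if_neg h, Nat.descFactorial_of_lt (not_le.1 h)]
      simp
  have h1 := Finset.sum_congr rfl fun j (_ : j ∈ univ) => h0 j
  rw [← Finset.sum_mul, ← Finset.sum_mul, ← Int.cast_sum, ← FM_cons, ← Finset.mul_sum] at h1
  have h2 : ∑ j, rs univ (uu β) (vv β 2) j * ((β j).descFactorial 2 : ℚ) * (Pw β 2 + c + 4 - 4 * β j) =
      (Pw β 2 + c + 4) * (Rk univ (uu β) (vv β 2) 2 - Rk univ (uu β) (vv β 2) 1) -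
        4 * (Rk univ (uu β) (vv β 2) 3 - Rk univ (uu β) (vv β 2) 2) := by
    simp only [Rk, Finset.mul_sum, ← Finset.sum_sub_distrib]
    exact Finset.sum_congr rfl fun j _ => by rw [desc2, uu]; ring
  obtain ⟨r1, r2, r3⟩ := R123 (v := vv β 2) (inj_uu hβ)
  obtain ⟨d1, d2, d3, d4⟩ := Dk_eq β 2
  rw [h2, r1, r2, r3, d1, d2, d3, d4, Pw_one hs, hP] at h1
  push_cast at h1
  simp only [e]
  linear_combination (-(1 / 2) : ℚ) * h1

end Cfsg.Agent.OM.Alt
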