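import Cfsg.Agent.OM.Alt.Sym
import Cfsg.Agent.H107.AltBlk.Exc
import Cfsg.Agent.H337.RIM.A6Char
import Cfsg.Agent.H206.S8.C3Tools
import Cfsg.Agent.H483.RIM.MParity
import Cfsg.Agent.H588.RIM.Val
import Cfsg.Agent.H102.SpCent
import Cfsg.Agent.OddOrderLocal.Blackburn
import Cfsg.Agent.Blocks.Knorr
import Cfsg.Agent.Blocks.PRegular

/-!
# OM (S4894): the groups `A₆`, `3.A₆`, `3.A₇` at the prime `2` (helper19)
-/

set_option autoImplicit false
set_option linter.unusedSectionVars false

namespace Cfsg.Agent.OM.Alt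

open Cfsg Subgroup Cfsg.Agent.H622.Over Cfsg.Agent.H382.RIM Cfsg.Agent.H107.AltBlk Cfsg.Agent.Blocks
open scoped ComplexConjugate

section gen

variable {X : Type} [Group X] [Finite X] {p : ℕ} [hp : Fact p.Prime] {M : Ideal AlgInt} {b : Set (IrrCharacter X)}

theorem same (hM : IsPModular p M) {θ ψ : X → ℂ} (hθ : IsIrrCharacter X θ) (hψ : IsIrrCharacter X ψ)
    (h1 : (charDegree θ).factorization p < (Nat.card X).factorization p)
    (h2 : (charDegree ψ).factorization p < (Nat.card X).factorization p)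
    (h : ∀ x, IsPRegular p x → p ∣ Nat.card (centralizer ({x} : Set X)) → θ x * ψ 1 = ψ x * θ 1) : SameBlock M θ ψ := by
  have := Fintype.ofFinite X
  refine PRegular.sameBlock_of_isPRegular hM hθ hψ fun g hg => ?_
  by_cases hc : p ∣ Nat.card (centralizer ({g} : Set X))
  · have h3 := Basic.irr_one_ne_zero hθ
    have h4 := Basic.irr_one_ne_zero hψ
    rw [show centralChar θ g - centralChar ψ g = 0 by
      rw [Basic.centralChar_def, Basic.centralChar_def]
      field_simp
      linear_combination ((centralizer ({g} : Set X)).index : ℂ) * h g hg hc]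
    exact LocalRing.memLocalIdeal_zero hM
  · have h3 : (Nat.card X).factorization p = (centralizer ({g} : Set X)).index.factorization p := by
      rw [← (centralizer ({g} : Set X)).card_mul_index, Nat.factorization_mul Nat.card_pos.ne' index_ne_zero_of_finite,
        Finsupp.add_apply, Nat.factorization_eq_zero_of_not_dvd hc, zero_add]
    exact LocalRing.memLocalIdeal_sub hM (Knorr.memLocalIdeal_centralChar_of_lt hM hθ (h3 ▸ h1))
      (Knorr.memLocalIdeal_centralChar_of_lt hM hψ (h3 ▸ h2))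

theorem not_dz (hM : IsPModular p M) (hb : IsPBlock M b) {D : Subgroup X} (hD : IsDefectGroup p M b D)
    (hc : ¬ IsCyclic D) {θ : IrrCharacter X} (hθ : θ ∈ b) :
    (charDegree (θ : X → ℂ)).factorization p < (Nat.card X).factorization p := by
  have h1 := height_le hM hb hθ
  have h2 : blockDefect p b ≠ 0 := fun e => hc (isCyclic_of_card_dvd_prime (p := p) (by
    rw [S0908.result p M hM b hb D hD, e]
    exact one_dvd _))
  rw [Basic.blockDefect_def, Basic.blockHeight_def] at *
  omega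

/-- column orthogonality for elements of order prime to the order of the centre -/
theorem col [Fintype (IrrCharacter X)] [∀ a b : X, Decidable (IsConj a b)] (c : center X →* ℂˣ) {k : ℕ}
    (hk : k.Coprime (Nat.card (center X))) {x y : X} (hx : x ^ k = 1) (hy : y ^ k = 1) :
    (Nat.card (center X) : ℂ) * ∑ χ ∈ ov (center X) c, (χ : X → ℂ) y * conj ((χ : X → ℂ) x) =
      if IsConj y x then (Nat.card (centralizer ({x} : Set X)) : ℂ) else 0 := by
  have := Fintype.ofFinite (center X)
  rw [sum_over le_rfl, mul_inv_cancel_left₀ (Nat.cast_ne_zero.2 Nat.card_pos.ne'), Finset.sum_eq_single 1]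
  · rw [OneMemClass.coe_one, mul_one, map_one, Units.val_one, map_one, one_mul]
  · intro z _ hz
    rw [if_neg fun e => hz ?_, mul_zero]
    obtain ⟨g, hg⟩ := isConj_iff.1 e.symm
    have h1 : (y * z) ^ k = 1 := by rw [← hg, conj_pow, hx, mul_one, mul_inv_cancel]
    rw [Commute.mul_pow (mem_center_iff.1 z.2 y), hy, one_mul] at h1
    have h2 := pow_gcd_eq_one.2 ⟨(Subtype.ext h1 : z ^ k = 1), pow_card_eq_one'⟩
    rwa [hk.gcd_eq_one, pow_one] at h2
  · simp

theorem fact_eq {a m : ℕ} (hm : ¬ p ∣ m) : (p ^ a * m).factorization p = a := by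
  rw [Nat.factorization_mul (pow_ne_zero _ hp.out.ne_zero) (by rintro rfl; exact hm (dvd_zero p)), Finsupp.add_apply,
    Nat.factorization_eq_zero_of_not_dvd hm, hp.out.factorization_pow, Finsupp.single_eq_same, add_zero]

end gen

theorem ord_of_inv {n : ℕ} (hn : n = 6 ∨ n = 7) {t g : alternatingGroup (Fin n)} (ht : orderOf t = 2)
    (h : t * g = g * t) : orderOf g ∣ (n - 4).factorial * 8 := by
  rw [← orderOf_coe] at ht ⊢
  obtain ⟨k, hk, h1⟩ := ty_of_prime Nat.prime_two ht
  have h2 := Equiv.Perm.mem_alternatingGroup.1 t.2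
  rw [Equiv.Perm.sign_of_cycleType, hk, Multiset.sum_replicate, Multiset.card_replicate] at h2
  obtain rfl : k = 1 := by
    have h3 : k ≤ 2 := by omega
    interval_cases k
    · exact absurd h2 (by decide)
    · rfl
    · exact absurd h2 (by decide)
  have h3 := (centralizer {(t : Equiv.Perm (Fin n))}).orderOf_dvd_natCard
    (mem_centralizer_singleton_iff.2 (congrArg Subtype.val h.symm))
  rw [Equiv.Perm.nat_card_centralizer, hk, Fintype.card_fin, mul_assoc] at h3
  exact h3

section exc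

variable {X : Type} [Group X] [Finite X] {n : ℕ} {M : Ideal AlgInt} {b : Set (IrrCharacter X)} {D : Subgroup X}

theorem ord_dvd (hn : n = 6 ∨ n = 7) (e : X ⧸ center X ≃* alternatingGroup (Fin n)) (hZ : ¬ 2 ∣ Nat.card (center X))
    {x : X} (h : 2 ∣ Nat.card (centralizer ({x} : Set X))) : orderOf (pr e x) ∣ (n - 4).factorial * 8 := by
  obtain ⟨s, hs⟩ := exists_prime_orderOf_dvd_card' 2 h
  rw [← orderOf_coe] at hs
  refine ord_of_inv hn (t := pr e s) (orderOf_eq_prime (by rw [← map_pow, ← hs, pow_orderOf_eq_one, map_one]) fun h1 => hZ ?_)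
    (by rw [← map_mul, ← map_mul, mem_centralizer_singleton_iff.1 s.2])
  rw [← hs]
  exact (center X).orderOf_dvd_natCard (pr_ker e ▸ h1)

theorem card_X (hn : n = 6 ∨ n = 7) (e : X ⧸ center X ≃* alternatingGroup (Fin n)) :
    Nat.card X = Nat.card (center X) * (360 * if n = 6 then 1 else 7) := by
  rw [card_eq e, H68.AltMul.card_alt hn]
  rfl

/-- `A₆` -/
theorem six_one (hM : IsPModular 2 M) (e : X ⧸ center X ≃* alternatingGroup (Fin 6)) (hZ : Nat.card (center X) = 1)
    (hb : IsPBlock M b) (hD : IsDefectGroup 2 M b D) (hc : ¬ IsCyclic D) : ∃ θ ∈ b, ∀ x, (θ : X → ℂ) x = 1 := by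
  have := hM.2.1.isPrime
  obtain ⟨θ, hθ⟩ := Basic.isPBlock_nonempty hb
  have h1 := not_dz hM hb hD hc hθ
  refine ⟨⟨_, Basic.isIrrCharacter_one⟩, Basic.isPBlock_mem_of_sameBlock hb hθ (same hM θ.2 Basic.isIrrCharacter_one h1
    (by rw [Basic.charDegree_of_eq (n := 1) (by simp)]; simp; omega) fun x hx h2 => ?_), fun _ => rfl⟩
  have h3 : orderOf (pr e x) ∣ 2 ^ 4 := ord_dvd (Or.inl rfl) e (by omega) h2
  have h4 : orderOf (pr e x) = 1 := Nat.Coprime.eq_one_of_dvd (Nat.Coprime.pow_right 4 ((Nat.Prime.coprime_iff_not_dvd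
    Nat.prime_two).2 fun h => hx (h.trans (orderOf_map_dvd _ x))).symm) h3
  have h5 : x ∈ center X := pr_ker e ▸ orderOf_eq_one_iff.1 h4
  rw [card_eq_one.1 hZ, mem_bot] at h5
  rw [h5, one_mul, mul_one]

theorem van3 (hn : n = 6 ∨ n = 7) (hq : commutator X = ⊤) (e : X ⧸ center X ≃* alternatingGroup (Fin n))
    (hZ : Nat.card (center X) = 3) {c : center X →* ℂˣ} (hc : Function.Injective c) {θ : X → ℂ}
    (hθ : IsIrrCharacter X θ) (hl : Lies (center X) c θ) {x : X} (hx : orderOf (pr e x) = 3) : θ x = 0 := by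
  have : Fact (Nat.Prime 3) := ⟨Nat.prime_three⟩
  have h1 : x ^ 3 ∈ center X := pr_ker e ▸ (by rw [MonoidHom.mem_ker, map_pow, ← hx, pow_orderOf_eq_one])
  have h2 : x ^ 3 ^ 2 = 1 := by
    have := congrArg Subtype.val (pow_card_eq_one' (x := (⟨_, h1⟩ : center X)))
    rw [hZ] at this
    rw [pow_two, pow_mul]
    exact this
  have h3 : IsPGroup 3 (zpowers x) := by
    obtain ⟨j, -, hj⟩ := (Nat.dvd_prime_pow Nat.prime_three).1 (orderOf_dvd_of_pow_eq_one h2)
    exact IsPGroup.of_card (by rw [Nat.card_zpowers, hj])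
  obtain ⟨P, hP⟩ := h3.exists_le_sylow
  have h4 : Nat.card P = 3 ^ 3 := by
    rw [P.card_eq_multiplicity, card_X hn e, hZ]
    congr 1
    rcases hn with rfl | rfl
    exacts [fact_eq (p := 3) (a := 3) (m := 40) (by omega), fact_eq (p := 3) (a := 3) (m := 280) (by omega)]
  have h5 : center X ≤ P := (IsPGroup.of_card (n := 1) hZ).le_sylow_of_normal P
  have h6 : ¬ IsMulCommutative P := fun h => by
    have h7 := S0088.result (P : Subgroup X) h P.card_coprime_index
    rw [hq, inf_top_eq, inf_eq_right.2 h5] at h7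
    rw [h7] at hZ
    simp at hZ
  obtain ⟨h7, h8⟩ := OddOrderLocal.Blackburn.card_three h4 h6
  have h9 : (center X).subgroupOf P = center P := eq_of_le_of_card_ge
    (fun z hz => mem_center_iff.2 fun g => Subtype.ext (mem_center_iff.1 hz g))
    (by rw [h8, Nat.card_congr (subgroupOfEquivOfLe h5).toEquiv, hZ])
  obtain ⟨y, hy⟩ : ∃ y : P, y * ⟨x, hP (mem_zpowers x)⟩ ≠ ⟨x, hP (mem_zpowers x)⟩ * y := by
    by_contra h
    push Not at h
    have h10 : x ∈ center X := (h9.ge (mem_center_iff.2 h) :)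
    rw [← pr_ker e, MonoidHom.mem_ker, ← orderOf_eq_one_iff] at h10
    omega
  have h10 : (y : X)⁻¹ * x⁻¹ * y * x ∈ center X := by
    have h11 := commutator_mem_commutator (mem_top y⁻¹) (mem_top (⟨x, hP (mem_zpowers x)⟩ : P)⁻¹)
    replace h11 := h9.ge (h7.le h11)
    rw [commutatorElement_def, inv_inv, inv_inv] at h11
    exact h11
  refine eq_zero_of_comm (Basic.irr_isClassFunction hθ) hl h10 fun h => hy (Subtype.ext ?_)
  have h11 : (y : X)⁻¹ * x⁻¹ * y * x = 1 := congrArg Subtype.val ((injective_iff_map_eq_one c).1 hc _ h)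
  calc (y : X) * x = x * y * ((y : X)⁻¹ * x⁻¹ * y * x) := by group
    _ = x * y := by rw [h11, mul_one]

/-- the elements of order five -/
def k5 (X : Type) [Group X] : Set X := {x | orderOf x = 5}

/-- the triple covers -/
theorem cy_three (hM : IsPModular 2 M) (hn : n = 6 ∨ n = 7) (hq : commutator X = ⊤)
    (e : X ⧸ center X ≃* alternatingGroup (Fin n)) (hZ : Nat.card (center X) = 3) : Cy X 2 M := by
  classical
  intro b hb hf h1 D hD
  by_contra hcy
  have := hM.2.1.isPrime
  have : Fact (Nat.Prime 5) := ⟨Nat.prime_five⟩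
  have := Characters.Core.finite_irr (G := X)
  have := Fintype.ofFinite (IrrCharacter X)
  have := Fintype.ofFinite X
  obtain ⟨θ, hθ⟩ := Basic.isPBlock_nonempty hb
  obtain ⟨c, hl⟩ := exists_hom le_rfl θ.2
  have hc : Function.Injective c := (injective_iff_map_eq_one c).2 fun z hz => Subtype.ext (hf θ hθ z z.2 (by
    have := hl 1 z
    rwa [hz, one_mul, Units.val_one, mul_one] at this))
  have hX := card_X hn e
  rw [hZ] at hX
  have h8 : (Nat.card X).factorization 2 = 3 := by
    rw [hX]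
    rcases hn with rfl | rfl
    exacts [fact_eq (p := 2) (a := 3) (m := 135) (by omega), fact_eq (p := 2) (a := 3) (m := 945) (by omega)]
  have h2 : ∀ χ ∈ ov (center X) c, χ ∉ b → n = 7 ∧ charDegree (χ : X → ℂ) = 24 := fun χ hχ h => by
    have h3 := mem_ov.1 hχ
    have h4 : 2 ^ 3 ∣ charDegree (χ : X → ℂ) := by
      rw [Nat.prime_two.pow_dvd_iff_le_factorization (Basic.charDegree_pos χ.2).ne']
      by_contra h4
      refine h (Basic.isPBlock_mem_of_sameBlock hb hθ (same hM θ.2 χ.2 (not_dz hM hb hD hcy hθ) (by omega)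
        fun x hx h5 => ?_))
      have h6 : orderOf (pr e x) ∣ 3 := Nat.Coprime.dvd_of_dvd_mul_right (k := orderOf (pr e x)) (n := 2 ^ 4)
        (Nat.Coprime.pow_right 4 ((Nat.Prime.coprime_iff_not_dvd
          Nat.prime_two).2 fun h => hx (h.trans (orderOf_map_dvd _ x))).symm)
        ((ord_dvd hn e (by omega) h5).trans (by rcases hn with rfl | rfl <;> decide))
      rcases (Nat.dvd_prime Nat.prime_three).1 h6 with h7 | h7
      · have h9 : x ∈ center X := pr_ker e ▸ orderOf_eq_one_iff.1 h7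
        have e1 := hl 1 ⟨x, h9⟩
        have e2 := h3 1 ⟨x, h9⟩
        rw [one_mul] at e1 e2
        rw [e1, e2]
        ring
      · rw [van3 hn hq e hZ hc θ.2 hl h7, van3 hn hq e hZ hc χ.2 h3 h7, zero_mul, zero_mul]
    have h5 := H337.RIM.card_dvd hq hc χ.2 h3
    have h6 := sum_deg_over le_rfl c
    have h7 := Finset.single_le_sum (f := fun χ : IrrCharacter X => charDegree (χ : X → ℂ) ^ 2)
      (fun _ _ => Nat.zero_le _) hχ
    have h9 := Knorr.charDegree_dvd χ.2
    have h10 := Basic.charDegree_pos χ.2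
    rw [hZ] at h5 h6
    rw [hX] at h6 h9
    obtain ⟨m, hm⟩ : 24 ∣ charDegree (χ : X → ℂ) := by omega
    rw [hm] at h7 h9 h10 ⊢
    have h11 : m < 3 := by
      by_contra h11
      split_ifs at h6 <;> nlinarith
    rcases hn with rfl | rfl <;> interval_cases m <;> simp at h6 h9 h10 ⊢ <;> omega
  have h3 : ∀ χ ∈ b, ks (k5 X) χ = ks (k5 X) θ / (θ : X → ℂ) 1 * (χ : X → ℂ) 1 := fun χ hχ => by
    rw [div_mul_eq_mul_div, eq_div_iff (one_ne θ)]
    exact h1 _ (fun α x hx => (α.orderOf_eq x).trans hx) (fun x hx h => by rw [show orderOf x = 5 from hx] at h; omega)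
      χ hχ θ hθ
  generalize ks (k5 X) θ / (θ : X → ℂ) 1 = a at h3
  have h5 : ∀ x ∈ k5 X, x ^ 5 = 1 := fun x hx => by rw [← show orderOf x = 5 from hx, pow_orderOf_eq_one]
  have hk : Nat.Coprime 5 (Nat.card (center X)) := by rw [hZ]; decide
  have h4 : ∀ x ∈ k5 X, ¬ IsConj 1 x ∧ ¬ IsConj x 1 := fun x hx => by
    have h6 : x ≠ 1 := fun h => by
      have h7 : orderOf x = 5 := hx
      rw [h, orderOf_one] at h7
      omega
    simpa using ⟨h6.symm, h6⟩
  rcases hn with rfl | rfl
  · obtain ⟨x, hx⟩ := exists_prime_orderOf_dvd_card' (G := X) 5 (by rw [hX]; decide)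
    have e1 := col c hk (h5 x hx) (one_pow 5)
    rw [if_neg (h4 x hx).1] at e1
    have e2 : ∑ y, (if y ∈ k5 X ∧ IsConj y x then Nat.card (centralizer ({x} : Set X)) else 0) = 0 := by
      rw [← Nat.cast_eq_zero (R := ℂ), ← mul_zero a, ← e1, mul_left_comm, Finset.mul_sum _ _ a,
        Finset.sum_congr rfl (g := fun χ : IrrCharacter X => ks (k5 X) χ * conj ((χ : X → ℂ) x)) fun χ hχ => by
          rw [h3 χ (by_contra fun h => absurd (h2 χ hχ h).1 (by decide)), mul_assoc]]
      simp only [ks_eq, Finset.sum_mul]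
      rw [Finset.sum_comm, Finset.mul_sum, Nat.cast_sum]
      refine Finset.sum_congr rfl fun y _ => ?_
      by_cases hy : y ∈ k5 X
      · simp only [hy, if_true, true_and]
        rw [col c hk (h5 x hx) (h5 y hy)]
        split_ifs <;> simp
      · simp [hy]
    have e3 := Finset.sum_eq_zero_iff.1 e2 x (Finset.mem_univ x)
    rw [if_pos ⟨hx, IsConj.refl x⟩] at e3
    exact Nat.card_pos.ne' e3
  · have e0 : ∀ u v : alternatingGroup (Fin 7), orderOf u = 5 → orderOf v = 5 → IsConj u v := fun u v hu hv => by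
      rw [← orderOf_coe] at hu hv
      obtain ⟨k, k1, k2⟩ := ty_of_prime Nat.prime_five hu
      obtain ⟨l, l1, l2⟩ := ty_of_prime Nat.prime_five hv
      obtain rfl : k = 0 := by omega
      obtain rfl : l = 0 := by omega
      exact alternatingGroup.isConj_of (Equiv.Perm.isConj_iff_cycleType_eq.2 (k1.trans l1.symm))
        (by rw [← Equiv.Perm.sum_cycleType, k1]; simp)
    obtain ⟨u, hu⟩ := exists_prime_orderOf_dvd_card' (G := alternatingGroup (Fin 7)) 5 (by
      rw [H68.AltMul.card_alt (Or.inr rfl)]; decide)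
    obtain ⟨x, rfl, hx, x1, x2⟩ := H206.S8.lift (pr_surjective e) Nat.prime_three Nat.prime_five (by decide)
      (by rw [pr_ker, hZ]) (pr_ker e).le hu fun i hi => e0 _ _ hu (by
        rw [Nat.Coprime.orderOf_pow (by rw [hu]; exact (Nat.prime_five.coprime_iff_not_dvd).2 hi), hu])
    have x3 := H102.SpCent.card_centralizer_alt Nat.prime_five (by decide) (by decide) _ hu
    replace x2 : Nat.card (centralizer ({x} : Set X)) = 15 := by
      rw [show Nat.factorial (7 - 5) = 2 from rfl] at x3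
      omega
    have x4 : ∀ y ∈ k5 X, IsConj y x := fun y hy => H483.RIM.isConj_lift (pr_surjective e) (pr_ker e).le
      (by rw [hx, pr_ker]; exact hk) (hx ▸ h5 y hy) (e0 _ _ (orderOf_eq_prime (by rw [← map_pow, h5 y hy, map_one])
        fun h => by
          have h6 := (center X).orderOf_dvd_natCard (pr_ker e ▸ h : y ∈ center X)
          rw [show orderOf y = 5 from hy, hZ] at h6
          omega) hu)
    have hK : ((k5 X).ncard : ℂ) ≠ 0 := Nat.cast_ne_zero.2 ((Set.ncard_pos (Set.toFinite _)).2 ⟨x, hx⟩).ne'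
    obtain ⟨a', rfl⟩ : ∃ a', a = (k5 X).ncard * a' := ⟨a / (k5 X).ncard, by field_simp⟩
    have x5 : ∀ χ ∈ b, (χ : X → ℂ) x - a' * (χ : X → ℂ) 1 = 0 := fun χ hχ => by
      have h6 := h3 χ hχ
      rw [ks_const fun y hy => Basic.irr_isConj χ.2 (x4 y hy), mul_assoc] at h6
      rw [mul_left_cancel₀ hK h6, sub_self]
    have x6 : ∀ χ ∈ ov (center X) c, χ ∉ b → (χ : X → ℂ) 1 = 24 ∧ (χ : X → ℂ) x = -1 := fun χ hχ h => by
      obtain ⟨m, m1, m2, m3⟩ := H588.RIM.exists_val χ.2 Nat.prime_five hx x1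
      rw [(h2 χ hχ h).2] at m2
      rw [x2] at m3
      push_cast at m2 m3
      rw [Basic.irr_one_eq_charDegree χ.2, (h2 χ hχ h).2, m1, show m = -1 by
        have : -4 < m := by nlinarith
        have : m < 4 := by nlinarith
        omega]
      simp
    have e1 := col c hk (h5 x hx) (one_pow 5)
    have e2 := col c hk (one_pow 5) (h5 x hx)
    have e3 := col c hk (h5 x hx) (h5 x hx)
    have e4 := col c hk (one_pow 5) (one_pow 5)
    rw [if_neg (h4 x hx).1] at e1
    rw [if_neg (h4 x hx).2] at e2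
    rw [if_pos (IsConj.refl x), x2] at e3
    rw [if_pos (IsConj.refl 1), (centralizer_eq_top_iff_subset (s := {(1 : X)})).2 (by simp), card_top, hX] at e4
    rw [hZ] at e1 e2 e3 e4
    have x7 : ∀ y v, (∀ χ ∈ ov (center X) c, χ ∉ b → conj ((χ : X → ℂ) y) = v) →
        ∑ χ ∈ ov (center X) c, (χ : X → ℂ) x * conj ((χ : X → ℂ) y) -
        a' * ∑ χ ∈ ov (center X) c, (χ : X → ℂ) 1 * conj ((χ : X → ℂ) y) =
        ((ov (center X) c).filter (· ∉ b)).card • ((-1 - a' * 24) * v) := fun y v hv => by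
      rw [Finset.mul_sum, ← Finset.sum_sub_distrib, ← Finset.sum_const, Finset.sum_filter]
      refine Finset.sum_congr rfl fun χ hχ => ?_
      rw [← mul_assoc, ← sub_mul]
      split_ifs with h
      · rw [x5 χ h, zero_mul]
      · rw [hv χ hχ h, (x6 χ hχ h).1, (x6 χ hχ h).2]
    have f1 := x7 x (-1) fun χ hχ h => by rw [(x6 χ hχ h).2, map_neg, map_one]
    have f2 := x7 1 24 fun χ hχ h => by rw [(x6 χ hχ h).1, map_ofNat]
    generalize Finset.card _ = k at f1 f2
    rw [nsmul_eq_mul] at f1 f2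
    push_cast at e1 e2 e3 e4
    have f3 : a' = 1 / 21 := by linear_combination (-1 / 7560 : ℂ) * (3 * f2 + 72 * f1 - e2 + a' * e4 - 24 * e3 + 24 * a' * e1)
    have f4 : ((3 * k : ℕ) : ℂ) = (7 : ℕ) := by
      rw [f3] at f1
      push_cast
      linear_combination (-7 / 15 : ℂ) * (3 * f1 - e3 + 1 / 21 * e1)
    have f5 := Nat.cast_injective f4
    omega

end exc

end Cfsg.Agent.OM.Alt
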