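import Cfsg.Agent.H886.Spin.WV

/-!
# OM (S4894), spin blocks: straightening (helper19)
-/

set_option autoImplicit false

namespace Cfsg.Agent.OM.Alt

open Cfsg.Agent.H614.Spin Cfsg.Agent.H886.Spin

/-- the lists give proportional functions -/
def Eqv (L L' : List ℤ) : Prop := ∃ c : ℤ, c ≠ 0 ∧ ∀ g, Rules g → g L = c * g L'

/-- the list gives zero -/
def Nul (L : List ℤ) : Prop := ∀ g, Rules g → g L = 0

/-- the sum of a function over a list -/
def sm (f : ℤ → ℚ) (L : List ℤ) : ℚ := (L.map f).sum

/-- the sums of odd functions agree -/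
def Sv (L L' : List ℤ) : Prop := ∀ f : ℤ → ℚ, (∀ a, f (-a) = - f a) → sm f L = sm f L'

/-- the entry `a` can be inserted -/
def Ok (a : ℤ) (M : List ℤ) : Prop := (0 < a ∧ a ∉ M) ∨ a = 0 ∨ (a < 0 ∧ -a ∈ M)

theorem sm_cons (f : ℤ → ℚ) (a : ℤ) (L : List ℤ) : sm f (a :: L) = f a + sm f L := by simp [sm]

theorem sm_append (f : ℤ → ℚ) (L M : List ℤ) : sm f (L ++ M) = sm f L + sm f M := by simp [sm]

theorem rules_pre {g : List ℤ → ℤ} (hg : Rules g) (L₀ : List ℤ) : Rules fun M => g (L₀ ++ M) :=
  ⟨fun L₁ a b L₂ => by simpa only [List.append_assoc] using hg.swap (L₀ ++ L₁) a b L₂,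
    fun L c hc => by simpa only [List.append_assoc] using hg.neg (L₀ ++ L) c hc,
    fun L => by simpa only [List.append_assoc] using hg.zero (L₀ ++ L)⟩

theorem ins {M : List ℤ} (hM : Strict M) (a : ℤ) :
    (Ok a M → ∃ N, Strict N ∧ Eqv (a :: M) N ∧ Sv (a :: M) N ∧ ∀ x ∈ N, x = a ∨ x ∈ M) ∧ (¬ Ok a M → Nul (a :: M)) := by
  induction M with
  | nil =>
    refine ⟨?_, fun h g hg => hg.neg [] a ?_⟩
    · rintro (h | rfl | h)
      · exact ⟨[a], ⟨List.pairwise_singleton _ _, by simpa using h.1⟩, ⟨1, one_ne_zero, fun g _ => (one_mul _).symm⟩,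
          fun _ _ => rfl, by simp⟩
      · refine ⟨[], hM, ⟨1, one_ne_zero, fun g hg => by simpa using hg.zero []⟩, fun f hf => ?_, by simp⟩
        have := hf 0
        rw [neg_zero] at this
        rw [sm_cons]
        linarith
      · simp at h
    · simp only [Ok, List.not_mem_nil, not_false_eq_true, and_true, and_false, or_false] at h
      omega
  | cons y M ih =>
    obtain ⟨ih1, ih2⟩ := ih hM.tail
    have hy := hM.head_pos
    have hyM : y ∉ M := fun h => lt_irrefl _ (hM.head_gt h)
    rcases lt_trichotomy y a with h | rfl | h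
    · have h1 : ∀ x ∈ y :: M, x < a := fun x hx => by
        rcases List.mem_cons.1 hx with rfl | hx
        · exact h
        · exact (hM.head_gt hx).trans h
      refine ⟨fun _ => ⟨a :: y :: M, ⟨List.pairwise_cons.2 ⟨h1, hM.1⟩, fun x hx => ?_⟩,
        ⟨1, one_ne_zero, fun g _ => (one_mul _).symm⟩, fun _ _ => rfl, fun x hx => List.mem_cons.1 hx⟩,
        fun h' => absurd (Or.inl ⟨by omega, fun e => lt_irrefl _ (h1 a e)⟩) h'⟩
      rcases List.mem_cons.1 hx with rfl | hx
      · omega
      · exact hM.2 x hx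
    · refine ⟨?_, fun _ g hg => ?_⟩
      · rintro (h | h | h)
        · exact absurd List.mem_cons_self h.2
        · omega
        · omega
      · have := hg.swap [] y y M
        rw [if_neg (by omega)] at this
        simp only [List.nil_append] at this
        omega
    by_cases h0 : a + y = 0
    · obtain rfl : a = -y := by omega
      have h2 := ih2 (by
        rintro (h | h | h)
        · omega
        · omega
        · exact hyM (by simpa using h.2))
      refine ⟨fun _ => ⟨M, hM.tail, ⟨2 * (-1) ^ (-y).natAbs, by simp, fun g hg => ?_⟩, fun f hf => ?_,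
        fun x hx => Or.inr (List.mem_cons_of_mem _ hx)⟩, fun h' => absurd (Or.inr (Or.inr ⟨by omega, by simp⟩)) h'⟩
      · have h3 := hg.swap [] (-y) y M
        have h4 := h2 _ (rules_pre hg [y])
        rw [if_pos h0] at h3
        simp only [List.nil_append, List.singleton_append] at h3 h4
        rw [← h3, h4, add_zero]
      · rw [sm_cons, sm_cons, hf]
        ring
    have h1 : Ok a (y :: M) ↔ Ok a M := by
      have e1 : a ≠ y := h.ne
      have e2 : -a ≠ y := by omega
      simp only [Ok, List.mem_cons, e1, e2, false_or]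
    have h2 : ∀ g, Rules g → g (a :: y :: M) = - g (y :: a :: M) := fun g hg => by
      have := hg.swap [] a y M
      rw [if_neg h0] at this
      simp only [List.nil_append] at this
      omega
    rw [h1]
    refine ⟨fun h3 => ?_, fun h3 g hg => ?_⟩
    · obtain ⟨N, n1, ⟨c, hc, n2⟩, n3, n4⟩ := ih1 h3
      refine ⟨y :: N, ⟨List.pairwise_cons.2 ⟨fun x hx => ?_, n1.1⟩, fun x hx => ?_⟩, ⟨-c, neg_ne_zero.2 hc, fun g hg => ?_⟩,
        fun f hf => ?_, fun x hx => ?_⟩
      · rcases n4 x hx with rfl | h4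
        · exact h
        · exact hM.head_gt h4
      · rcases List.mem_cons.1 hx with rfl | hx
        · exact hy
        · exact n1.2 x hx
      · have := n2 _ (rules_pre hg [y])
        simp only [List.singleton_append] at this
        rw [h2 g hg, this, neg_mul]
      · have := n3 f hf
        simp only [sm_cons] at this ⊢
        linarith
      · rcases List.mem_cons.1 hx with rfl | hx
        · simp
        · rcases n4 x hx with h4 | h4
          · exact Or.inl h4
          · exact Or.inr (List.mem_cons_of_mem _ h4)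
    · have := ih2 h3 _ (rules_pre hg [y])
      simp only [List.singleton_append] at this
      rw [h2 g hg, this, neg_zero]

/-- lowering an entry of a strict list -/
theorem low {L₁ L₂ : List ℤ} {a : ℤ} (h : Strict (L₁ ++ a :: L₂)) {c : ℤ} (hc : c < a) :
    (Ok c L₂ → ∃ N, Strict N ∧ Eqv (L₁ ++ c :: L₂) N ∧ Sv (L₁ ++ c :: L₂) N) ∧ (¬ Ok c L₂ → Nul (L₁ ++ c :: L₂)) := by
  have hp := List.pairwise_append.1 h.1
  have h2 : Strict L₂ := ⟨(List.pairwise_cons.1 hp.2.1).2, fun x hx => h.2 x (by simp [hx])⟩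
  obtain ⟨i1, i2⟩ := ins h2 c
  refine ⟨fun ho => ?_, fun ho g hg => i2 ho _ (rules_pre hg L₁)⟩
  obtain ⟨N, n1, ⟨e, he, n2⟩, n3, n4⟩ := i1 ho
  refine ⟨L₁ ++ N, ⟨List.pairwise_append.2 ⟨hp.1, n1.1, fun x hx y hy => ?_⟩, fun x hx => ?_⟩,
    ⟨e, he, fun g hg => n2 _ (rules_pre hg L₁)⟩, fun f hf => by rw [sm_append, sm_append, n3 f hf]⟩
  · rcases n4 y hy with rfl | h4
    · exact hc.trans (hp.2.2 x hx a List.mem_cons_self)
    · exact hp.2.2 x hx y (List.mem_cons_of_mem _ h4)
  · rcases List.mem_append.1 hx with hx | hx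
    · exact h.2 x (by simp [hx])
    · exact n1.2 x hx

theorem sm_id (L : List ℤ) : sm (fun a => a) L = (L.sum : ℤ) := by
  induction L with
  | nil => simp [sm]
  | cons a L ih => rw [sm_cons, ih]; simp

theorem Sv.sum {L L' : List ℤ} (h : Sv L L') : L.sum = L'.sum := by
  have := h (fun a => a) fun a => by simp
  rw [sm_id, sm_id] at this
  exact_mod_cast this

end Cfsg.Agent.OM.Alt
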