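import Cfsg.Agent.H600.RIM.Num
import Cfsg.Agent.OM.Alt.Str
import Cfsg.Agent.OM.Alt.Lag

/-!
# OM (S4894), spin blocks: the values at `3`-cycles and at `5`-cycles (helper19)
-/

set_option autoImplicit false

namespace Cfsg.Agent.OM.Alt

open Finset Cfsg.Agent.H614.Spin Cfsg.Agent.H886.Spin

/-- the weight of an entry -/
def wa (L : List ℤ) (a : ℤ) : ℚ := (a : ℚ) * ((L.erase a).map (phi a)).prod

theorem ones_low {n : ℕ} {L₁ L₂ : List ℤ} {a : ℤ} (hL : Strict (L₁ ++ a :: L₂))
    (hsum : (L₁ ++ a :: L₂).sum = (n + 1 : ℕ)) :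
    (X (Multiset.replicate n 1) (L₁ ++ (a - 1) :: L₂) : ℚ) * (n + 1) =
      X (Multiset.replicate (n + 1) 1) (L₁ ++ a :: L₂) * wa (L₁ ++ a :: L₂) a := by
  have ih : ∀ {L : List ℤ}, Strict L → L.sum = n →
      (X (Multiset.replicate n 1) L : ℚ) = n.factorial / fden L * ratio L := fun h1 h2 => X_ones n h1 h2
  have ha : 0 < a := hL.2 a (by simp)
  have hp := List.pairwise_append.1 hL.1
  have hpc := List.pairwise_cons.1 hp.2.1
  have herase : (L₁ ++ a :: L₂).erase a = L₁ ++ L₂ := by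
    rw [List.erase_append_right _ (fun hmem => absurd (hp.2.2 a hmem a List.mem_cons_self) (lt_irrefl a)),
      List.erase_cons_head]
  have e0 : (X (Multiset.replicate (n + 1) 1) (L₁ ++ a :: L₂) : ℚ) =
      (n + 1).factorial / fden (L₁ ++ a :: L₂) * ratio (L₁ ++ a :: L₂) := X_ones (n + 1) hL hsum
  have e1 : (n.factorial : ℚ) / fden (L₁ ++ a :: L₂) * ratio (L₁ ++ a :: L₂) *
      ((a : ℚ) * ((L₁ ++ L₂).map (phi a)).prod) =
      n.factorial / fden (L₁ ++ (a - 1) :: L₂) * ratio (L₁ ++ (a - 1) :: L₂) := by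
    rw [ratio_pred hL, fden_pred L₁ ha L₂]
    have h1 : (a : ℚ) ≠ 0 := by exact_mod_cast ha.ne'
    have h2 := fden_ne (L₁ ++ (a - 1) :: L₂)
    field_simp
  suffices h : (X (Multiset.replicate n 1) (L₁ ++ (a - 1) :: L₂) : ℚ) =
      n.factorial / fden (L₁ ++ (a - 1) :: L₂) * ratio (L₁ ++ (a - 1) :: L₂) by
    rw [h, ← e1, e0, wa, herase, Nat.factorial_succ]
    push_cast
    ring
  have hs : (L₁ ++ (a - 1) :: L₂).sum = n := by
    rw [List.sum_append, List.sum_cons] at hsum ⊢
    push_cast at hsum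
    omega
  rcases L₂ with _ | ⟨b, L₃⟩
  · by_cases h1 : a = 1
    · subst h1
      have hs1 : Strict L₁ := ⟨hp.1, fun b hb => hL.2 b (by simp [hb])⟩
      rw [sub_self, (X_rules (odd_ones n)).zero]
      have hs' : L₁.sum = n := by simpa using hs
      rw [ih hs1 hs']
      have e3 : ratio (L₁ ++ [0]) = ratio L₁ := by
        rw [ratio_append_cons]
        have : (L₁.map fun b => ((b - 0 : ℤ) : ℚ) / ((b + 0 : ℤ) : ℚ)).prod = 1 := by
          apply List.prod_eq_one
          intro x hx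
          obtain ⟨b, hb, rfl⟩ := List.mem_map.1 hx
          have hb0 : (b : ℚ) ≠ 0 := by
            have := hs1.2 b hb
            exact_mod_cast this.ne'
          simp [hb0]
        rw [this]
        simp
      have e4 : fden (L₁ ++ [0]) = fden L₁ := by
        rw [fden_append_cons]; simp
      rw [e3, e4]
    · refine ih ⟨?_, ?_⟩ hs
      · rw [List.pairwise_append]
        refine ⟨hp.1, List.pairwise_singleton _ _, fun x hx y hy => ?_⟩
        rw [List.mem_singleton] at hy
        have := hp.2.2 x hx a List.mem_cons_self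
        omega
      · intro x hx
        rw [List.mem_append, List.mem_singleton] at hx
        rcases hx with hx | hx
        · exact hL.2 x (by simp [hx])
        · omega
  · have hba : b < a := hpc.1 b List.mem_cons_self
    have hb0 : 0 < b := hL.2 b (by simp)
    by_cases h1 : a - 1 = b
    · have h2 : X (Multiset.replicate n 1) (L₁ ++ (a - 1) :: b :: L₃) = 0 := by
        have := (X_rules (odd_ones n)).swap L₁ (a - 1) b L₃
        rw [if_neg (by omega), h1] at this
        rw [h1]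
        omega
      rw [h2, ratio_append_cons, List.map_cons, List.prod_cons, h1, sub_self]
      simp
    · refine ih ⟨?_, ?_⟩ hs
      · rw [List.pairwise_append]
        refine ⟨hp.1, ?_, fun x hx y hy => ?_⟩
        · rw [List.pairwise_cons]
          refine ⟨fun x hx => ?_, hpc.2⟩
          rw [List.mem_cons] at hx
          rcases hx with hx | hx
          · omega
          · have := (List.pairwise_cons.1 hpc.2).1 x hx
            omega
        · rw [List.mem_cons] at hy
          rcases hy with hy | hy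
          · have := hp.2.2 x hx a List.mem_cons_self
            omega
          · exact hp.2.2 x hx y (List.mem_cons_of_mem _ hy)
      · intro x hx
        rw [List.mem_append, List.mem_cons] at hx
        rcases hx with hx | hx | hx
        · exact hL.2 x (by simp [hx])
        · omega
        · exact hL.2 x (by rw [List.mem_append]; right; exact List.mem_cons_of_mem _ hx)

/-- power sums -/
def pw (k : ℕ) (L : List ℤ) : ℚ := sm (fun a => (a : ℚ) ^ k) L

theorem Sv.pw {L L' : List ℤ} (h : Sv L L') {k : ℕ} (hk : Odd k) : pw k L = pw k L' :=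
  h _ fun a => by push_cast; exact hk.neg_pow _

theorem moments {L : List ℤ} (hL : Strict L) (A B C : ℚ) :
    sm (fun a => wa L a * (A + B * (a * (a - 1)) + C * (a * (a - 1)) ^ 2)) L =
      A * pw 1 L + B * (pw 3 L - pw 1 L ^ 2) + C * (pw 5 L + pw 3 L / 3 - 2 * pw 1 L * pw 3 L + 2 * pw 1 L ^ 3 / 3) := by
  have hn := hL.nodup
  let u : ℤ → ℚ := fun x => (x : ℚ) * (x - 1)
  let v : ℤ → ℚ := fun x => (x : ℚ) * (x + 1)
  have hv : Set.InjOn u L.toFinset := by
    intro x hx y hy h
    have hx' := hL.2 x (by simpa using hx)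
    have hy' := hL.2 y (by simpa using hy)
    have h1 : (x : ℚ) * (x - 1) = (y : ℚ) * (y - 1) := h
    have h2 : x * (x - 1) = y * (y - 1) := by exact_mod_cast h1
    have h3 : (x - y) * (x + y - 1) = 0 := by linarith
    rcases mul_eq_zero.1 h3 with h4 | h4 <;> omega
  have e1 : ∀ a, rs L.toFinset u v a = -2 * wa L a := by
    intro a
    have e2 : (L.erase a).toFinset = L.toFinset.erase a := by
      ext x
      rw [List.mem_toFinset, hn.mem_erase_iff, Finset.mem_erase, List.mem_toFinset]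
    rw [wa, rs, ← List.prod_toFinset _ (hn.erase a), e2, ← mul_assoc]
    congr 1
    · simp only [u, v]; ring
    · refine Finset.prod_congr rfl fun y _ => ?_
      simp only [u, v, phi]
      congr 1 <;> push_cast <;> ring
  have e3 : ∀ f : ℤ → ℚ, sm f L = ∑ a ∈ L.toFinset, f a := fun f => (List.sum_toFinset _ hn).symm
  have d1 : Dk L.toFinset u v 1 = 2 * pw 1 L := by
    rw [pw, e3, Dk, Finset.mul_sum]
    exact Finset.sum_congr rfl fun a _ => by simp only [u, v]; ring
  have d2 : Dk L.toFinset u v 2 = 4 * pw 3 L := by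
    rw [pw, e3, Dk, Finset.mul_sum]
    exact Finset.sum_congr rfl fun a _ => by simp only [u, v]; ring
  have d3 : Dk L.toFinset u v 3 = 6 * pw 5 L + 2 * pw 3 L := by
    rw [pw, pw, e3, e3, Dk, Finset.mul_sum, Finset.mul_sum, ← Finset.sum_add_distrib]
    exact Finset.sum_congr rfl fun a _ => by simp only [u, v]; ring
  have r0 := R0 (v := v) hv
  obtain ⟨r1, r2, -⟩ := R123 (v := v) hv
  have e4 : -2 * sm (fun a => wa L a * (A + B * (a * (a - 1)) + C * (a * (a - 1)) ^ 2)) L =
      A * Rk L.toFinset u v 0 + B * Rk L.toFinset u v 1 + C * Rk L.toFinset u v 2 := by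
    simp only [e3, Rk, Finset.mul_sum, ← Finset.sum_add_distrib, e1]
    exact Finset.sum_congr rfl fun a _ => by simp only [u]; ring
  rw [r0, r1, r2, d1, d2, d3] at e4
  linear_combination (-1 / 2 : ℚ) * e4

theorem pw_one (L : List ℤ) : pw 1 L = (L.sum : ℤ) := by simpa [pw] using sm_id L

theorem pw_low (k : ℕ) (L₁ L₂ : List ℤ) (a c : ℤ) :
    pw k (L₁ ++ c :: L₂) = pw k (L₁ ++ a :: L₂) - (a : ℚ) ^ k + (c : ℚ) ^ k := by
  simp only [pw, sm_append, sm_cons]
  ring

theorem odd_cons {r : ℕ} (hr : Odd r) (k : ℕ) : ∀ i ∈ r ::ₘ Multiset.replicate k 1, Odd i := fun i hi => by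
  rcases Multiset.mem_cons.1 hi with rfl | hi
  exacts [hr, odd_ones k i hi]

theorem val_ind {r : ℕ} (hr : Odd r) (α : ℚ) (β γ : ℚ → ℚ)
    (h0 : ∀ L, Strict L → L.sum = r → (X {r} L : ℚ) * r.factorial =
      X (Multiset.replicate r 1) L * (α * pw 5 L + β r * pw 3 L + γ r))
    (h1 : ∀ n P Q : ℚ, (α * (Q - 1) + β (n - 1) * (P - 1) + γ (n - 1)) * n + (-5 * α - 3 * β (n - 1)) * (P - n ^ 2) +
      (-5 * α) * (Q + P / 3 - 2 * n * P + 2 * n ^ 3 / 3) = (n - r) * (α * Q + β n * P + γ n))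
    (k : ℕ) : ∀ L, Strict L → L.sum = (r + k : ℕ) → (X (r ::ₘ Multiset.replicate k 1) L : ℚ) * (r + k).descFactorial r =
      X (Multiset.replicate (r + k) 1) L * (α * pw 5 L + β (r + k) * pw 3 L + γ (r + k)) := by
  induction k with
  | zero =>
    intro L hL hs
    simpa [Nat.descFactorial_self] using h0 L hL hs
  | succ k ih =>
    intro L hL hs
    have hd : ((r + k).descFactorial r : ℚ) ≠ 0 := Nat.cast_ne_zero.2 (Nat.descFactorial_pos.2 (by omega)).ne'
    have hn : ((r + k : ℕ) : ℚ) + 1 ≠ 0 := by positivity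
    have key : ∀ L₁ a L₂, L = L₁ ++ a :: L₂ →
        ((X (r ::ₘ Multiset.replicate k 1) (L₁ ++ (a - ((1 : ℕ) : ℤ)) :: L₂) : ℤ) : ℚ) =
          X (Multiset.replicate (r + k + 1) 1) L / ((r + k).descFactorial r * ((r + k : ℕ) + 1)) *
            (wa L a * ((α * (pw 5 L - 1) + β (r + k) * (pw 3 L - 1) + γ (r + k)) +
              (-5 * α - 3 * β (r + k)) * (a * (a - 1)) + (-5 * α) * (a * (a - 1)) ^ 2)) := by
      rintro L₁ a L₂ rfl
      have h2 := ones_low (n := r + k) hL hs
      have h3 : (X (r ::ₘ Multiset.replicate k 1) (L₁ ++ (a - 1) :: L₂) : ℚ) * (r + k).descFactorial r =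
          X (Multiset.replicate (r + k) 1) (L₁ ++ (a - 1) :: L₂) *
            (α * pw 5 (L₁ ++ (a - 1) :: L₂) + β (r + k) * pw 3 (L₁ ++ (a - 1) :: L₂) + γ (r + k)) := by
        obtain ⟨i1, i2⟩ := low hL (c := a - 1) (by omega)
        by_cases ho : Ok (a - 1) L₂
        · obtain ⟨N, n1, ⟨c, -, n2⟩, n3⟩ := i1 ho
          have h4 := ih N n1 (by
            rw [← n3.sum]
            simp only [List.sum_append, List.sum_cons] at hs ⊢
            push_cast at hs ⊢
            omega)
          rw [n2 _ (X_rules (odd_cons hr k)), n2 _ (X_rules (odd_ones _)), n3.pw (by decide), n3.pw (by decide)]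
          push_cast
          linear_combination (c : ℚ) * h4
        · rw [i2 ho _ (X_rules (odd_cons hr k)), i2 ho _ (X_rules (odd_ones _))]
          simp
      rw [pw_low 5 L₁ L₂ a, pw_low 3 L₁ L₂ a] at h3
      rw [Nat.cast_one, div_mul_eq_mul_div, eq_div_iff (mul_ne_zero hd hn)]
      push_cast at h2 h3 ⊢
      linear_combination ((r : ℚ) + k + 1) * h3 + (α * (pw 5 (L₁ ++ a :: L₂) - a ^ 5 + (a - 1) ^ 5) +
        β (r + k) * (pw 3 (L₁ ++ a :: L₂) - a ^ 3 + (a - 1) ^ 3) + γ (r + k)) * h2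
    rw [Multiset.replicate_succ, Multiset.cons_swap, X_cons, dl_split _ _ _ L key, List.sum_map_mul_left]
    have h2 := moments hL (α * (pw 5 L - 1) + β (r + k) * (pw 3 L - 1) + γ (r + k)) (-5 * α - 3 * β (r + k)) (-5 * α)
    have h3 := h1 (r + k + 1) (pw 3 L) (pw 5 L)
    have h4 := congrArg (Nat.cast : ℕ → ℚ) (Nat.succ_descFactorial (r + k) r)
    rw [show r + k + 1 - r = k + 1 by omega] at h4
    rw [sm] at h2
    rw [h2, pw_one, hs, ← add_assoc]
    simp only [add_sub_cancel_right] at h3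
    push_cast at h3 h4 hn ⊢
    rw [← add_assoc, h3, div_mul_eq_mul_div, div_mul_eq_mul_div, div_eq_iff (mul_ne_zero hd hn)]
    linear_combination ((X (Multiset.replicate (r + k + 1) 1) L : ℚ) *
      (α * pw 5 L + β (r + k + 1) * pw 3 L + γ (r + k + 1))) * h4

theorem strict_cases {L : List ℤ} (hL : Strict L) (h : L.sum ≤ 5) :
    L = [] ∨ (∃ a, L = [a]) ∨ ∃ a b, L = [a, b] ∧ 0 < b ∧ b < a := by
  rcases L with _ | ⟨a, _ | ⟨b, _ | ⟨c, M⟩⟩⟩
  · exact Or.inl rfl
  · exact Or.inr (Or.inl ⟨a, rfl⟩)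
  · exact Or.inr (Or.inr ⟨a, b, rfl, hL.tail.head_pos, hL.head_gt (by simp)⟩)
  · have h1 := hL.head_gt (b := b) (by simp)
    have h2 := hL.tail.head_gt (b := c) (by simp)
    have h3 := hL.tail.tail.head_pos
    have h4 : 0 ≤ M.sum := List.sum_nonneg fun x hx => (hL.tail.tail.tail.2 x hx).le
    simp only [List.sum_cons] at h
    omega

/-- `3`-cycles -/
theorem sval3 {n : ℕ} (hn : 3 ≤ n) {L : List ℤ} (hL : Strict L) (hs : L.sum = n) :
    (X (3 ::ₘ Multiset.replicate (n - 3) 1) L : ℚ) * n.descFactorial 3 =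
      X (Multiset.replicate n 1) L * (pw 3 L + (-3 * n ^ 2 + 2 * n)) := by
  obtain ⟨k, rfl⟩ := Nat.exists_eq_add_of_le hn
  have := val_ind (r := 3) (by decide) 0 (fun _ => 1) (fun n => -3 * n ^ 2 + 2 * n) (fun L hL hs => ?_)
    (fun n P Q => by push_cast; ring) k L hL hs
  · rw [Nat.add_sub_cancel_left, this]
    push_cast
    ring
  rw [X_ones 3 hL hs]
  rcases strict_cases hL (by omega) with rfl | ⟨a, rfl⟩ | ⟨a, b, rfl, h1, h2⟩
  · simp at hs
  · obtain rfl : a = 3 := by simpa using hs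
    rw [show X {3} [3] = 1 by decide]
    norm_num [ratio, pw, sm, Nat.factorial, Int.toNat]
  · obtain ⟨rfl, rfl⟩ : a = 2 ∧ b = 1 := by simp at hs; omega
    rw [show X {3} [2, 1] = -2 by decide]
    norm_num [ratio, pw, sm, Nat.factorial, Int.toNat]

/-- `5`-cycles -/
theorem sval5 {n : ℕ} (hn : 5 ≤ n) {L : List ℤ} (hL : Strict L) (hs : L.sum = n) :
    (X (5 ::ₘ Multiset.replicate (n - 5) 1) L : ℚ) * n.descFactorial 5 =
      X (Multiset.replicate n 1) L * (pw 5 L + (55 / 3 - 10 * n) * pw 3 L + (50 / 3 * n ^ 3 - 50 * n ^ 2 + 24 * n)) := by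
  obtain ⟨k, rfl⟩ := Nat.exists_eq_add_of_le hn
  have := val_ind (r := 5) (by decide) 1 (fun n => 55 / 3 - 10 * n) (fun n => 50 / 3 * n ^ 3 - 50 * n ^ 2 + 24 * n)
    (fun L hL hs => ?_) (fun n P Q => by push_cast; ring) k L hL hs
  · rw [Nat.add_sub_cancel_left, this]
    push_cast
    ring
  rw [X_ones 5 hL hs]
  rcases strict_cases hL (by omega) with rfl | ⟨a, rfl⟩ | ⟨a, b, rfl, h1, h2⟩
  · simp at hs
  · obtain rfl : a = 5 := by simpa using hs
    rw [show X {5} [5] = 1 by decide]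
    norm_num [ratio, pw, sm, Nat.factorial, Int.toNat]
  · have h3 : (a = 4 ∧ b = 1) ∨ (a = 3 ∧ b = 2) := by simp at hs; omega
    rcases h3 with ⟨rfl, rfl⟩ | ⟨rfl, rfl⟩
    · rw [show X {5} [4, 1] = -2 by decide]
      norm_num [ratio, pw, sm, Nat.factorial, Int.toNat]
    · rw [show X {5} [3, 2] = 2 by decide]
      norm_num [ratio, pw, sm, Nat.factorial, Int.toNat]

end Cfsg.Agent.OM.Alt
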