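import Cfsg.Agent.H886.Spin.Ortho
import Cfsg.Agent.OM.Alt.SpinF

/-!
# OM (S4894), spin blocks: removing bars (helper19)
-/

set_option autoImplicit false

namespace Cfsg.Agent.OM.Alt

open Finset Cfsg.Agent.H614 Cfsg.Agent.H614.Spin Cfsg.Agent.H886.Spin

/-- the bar at `a` is removable -/
def Rv (p : ℕ) (L : List ℤ) (a : ℤ) : Prop :=
  a ∈ L ∧ ((p < a ∧ a - p ∉ L) ∨ a = p ∨ (p - a < a ∧ p - a ∈ L))

/-- `μ` is obtained by removing the bar at `a` -/
structure Rm (p : ℕ) (L : List ℤ) (a : ℤ) (μ : List ℤ) : Prop where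
  rv : Rv p L a
  str : Strict μ
  sv : ∀ f : ℤ → ℚ, (∀ a, f (-a) = - f a) → sm f μ = sm f L - f a + f (a - p)

/-- the signed indicator -/
def del (x a : ℤ) : ℚ := (if a = x then 1 else 0) - (if a = -x then 1 else 0)

theorem del_odd (x a : ℤ) : del x (-a) = - del x a := by
  simp only [del, neg_eq_iff_eq_neg, neg_neg, neg_sub]

theorem sm_del {L : List ℤ} (hL : Strict L) (x : ℤ) :
    sm (del x) L = (if x ∈ L then 1 else 0) - (if -x ∈ L then 1 else 0) := by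
  rw [sm, ← List.sum_toFinset _ hL.nodup]
  unfold del
  rw [Finset.sum_sub_distrib, Finset.sum_ite_eq', Finset.sum_ite_eq']
  simp only [List.mem_toFinset]

theorem strict_ext {L L' : List ℤ} (hL : Strict L) (hL' : Strict L') (h : Sv L L') : L = L' := by
  have key : ∀ {L L' : List ℤ}, Strict L → Strict L' → Sv L L' → ∀ x ∈ L, x ∈ L' := by
    intro L L' hL hL' h x hx
    have h1 := h _ (del_odd x)
    have h2 := hL.2 x hx
    rw [sm_del hL, sm_del hL', if_pos hx, if_neg fun e => by have := hL.2 _ e; omega,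
      if_neg (c := -x ∈ L') fun e => by have := hL'.2 _ e; omega] at h1
    by_contra h3
    rw [if_neg h3] at h1
    norm_num at h1
  refine List.Perm.eq_of_pairwise (le := fun a b => b < a) (fun a b _ _ h1 h2 => by omega) hL.1 hL'.1 ?_
  exact (List.perm_ext_iff_of_nodup hL.nodup hL'.nodup).2 fun x =>
    ⟨key hL hL' h x, key hL' hL (fun f hf => (h f hf).symm) x⟩

variable {p : ℕ}

theorem Rm.eq {L L' μ : List ℤ} {a a' : ℤ} (h : Rm p L a μ) (h' : Rm p L' a' μ) (hL : Strict L) (hL' : Strict L')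
    (ha : a' = a ∨ a' = p - a) : L = L' := by
  refine strict_ext hL hL' fun f hf => ?_
  have h1 := h.sv f hf
  have h2 := h'.sv f hf
  rcases ha with rfl | rfl
  · linarith
  · rw [show (p : ℤ) - a - p = -a by ring, show (p : ℤ) - a = -(a - p) by ring, hf, hf] at h2
    linarith

theorem Rm.pos {L μ : List ℤ} {a a' : ℤ} (hp : 0 < p) (h : Rm p L a μ) (h' : Rm p L a' μ) (hL : Strict L) : a = a' := by
  by_contra hne
  have h1 := h.sv _ (del_odd a)
  have h2 := h'.sv _ (del_odd a)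
  have h3 := hL.2 a h.rv.1
  have h4 := hL.2 a' h'.rv.1
  have h5 : del a a - del a (a - p) = del a a' - del a (a' - p) := by linarith
  have h6 : a' = p - a := by
    by_contra h6
    simp only [del, if_true] at h5
    rw [if_neg (by omega), if_neg (by omega), if_neg (c := a' = a) (by omega), if_neg (c := a' = -a) (by omega),
      if_neg (c := a' - p = -a) (by omega)] at h5
    split_ifs at h5 <;> norm_num at h5
  rcases h.rv.2 with k | k | k <;> rcases h'.rv.2 with k' | k' | k' <;> omega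

theorem exists_dec (hp : 0 < p) {L : List ℤ} (hL : Strict L) : ∃ (e : ℤ → ℤ) (N : ℤ → List ℤ),
    (∀ a ∈ L, (e a ≠ 0 → Rm p L a (N a)) ∧ (Rv p L a → e a ≠ 0)) ∧
    ∀ s : Multiset ℕ, (∀ i ∈ s, Odd i) → (X (p ::ₘ s) L : ℚ) = sm (fun a => e a * X s (N a)) L := by
  have key : ∀ a, ∃ (e : ℤ) (N : List ℤ), ∀ L₁ L₂, L = L₁ ++ a :: L₂ → ((e ≠ 0 → Rm p L a N) ∧ (Rv p L a → e ≠ 0)) ∧
      ∀ g, Rules g → g (L₁ ++ (a - p) :: L₂) = e * g N := by
    intro a
    by_cases ha : a ∈ L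
    swap
    · exact ⟨0, [], fun L₁ L₂ h => absurd (by simp [h]) ha⟩
    obtain ⟨M₁, M₂, rfl⟩ := List.append_of_mem ha
    have hpw := List.pairwise_append.1 hL.1
    have hu : ∀ L₁ L₂, M₁ ++ a :: M₂ = L₁ ++ a :: L₂ → M₁ = L₁ ∧ M₂ = L₂ := fun L₁ L₂ h => by
      have n1 := hL.nodup
      have n2 := h ▸ n1
      have := (List.append_cons_inj_of_notMem (fun e => by simp [List.nodup_append] at n1; grind)
        (fun e => by simp [List.nodup_append] at n1; grind)).1 h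
      exact ⟨this.1, this.2.2⟩
    have hm : ∀ x, x < a → (x ∈ M₁ ++ a :: M₂ ↔ x ∈ M₂) := fun x hx => by
      simp only [List.mem_append, List.mem_cons]
      refine ⟨?_, fun h => Or.inr (Or.inr h)⟩
      rintro (h | h | h)
      · have := hpw.2.2 x h a List.mem_cons_self
        omega
      · omega
      · exact h
    have ho : Rv p (M₁ ++ a :: M₂) a ↔ Ok (a - p) M₂ := by
      simp only [Rv, Ok, ha, true_and, hm (a - p) (by omega), neg_sub]
      refine or_congr (and_congr_left' (by omega)) (or_congr (by omega) ⟨fun h => ?_, fun h => ?_⟩)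
      · have := hL.2 _ h.2
        exact ⟨by omega, (hm _ h.1).1 h.2⟩
      · have := (List.pairwise_cons.1 hpw.2.1).1 _ h.2
        exact ⟨this, (hm _ this).2 h.2⟩
    obtain ⟨i1, i2⟩ := low hL (c := a - p) (by omega)
    by_cases h : Ok (a - p) M₂
    · obtain ⟨N, n1, ⟨e, he, n2⟩, n3⟩ := i1 h
      refine ⟨e, N, fun L₁ L₂ h' => ?_⟩
      obtain ⟨rfl, rfl⟩ := hu L₁ L₂ h'
      refine ⟨⟨fun _ => ⟨ho.2 h, n1, fun f hf => ?_⟩, fun _ => he⟩, n2⟩
      rw [← n3 f hf]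
      simp only [sm_append, sm_cons]
      ring
    · refine ⟨0, [], fun L₁ L₂ h' => ?_⟩
      obtain ⟨rfl, rfl⟩ := hu L₁ L₂ h'
      exact ⟨⟨fun e => absurd rfl e, fun e => absurd (ho.1 e) h⟩, fun g hg => by rw [i2 h g hg, zero_mul]⟩
  choose e N h using key
  refine ⟨e, N, fun a ha => ?_, fun s hs => ?_⟩
  · obtain ⟨M₁, M₂, h1⟩ := List.append_of_mem ha
    exact (h a M₁ M₂ h1).1
  · rw [X_cons]
    exact dl_split _ _ _ L fun L₁ a L₂ h1 => by rw [(h a L₁ L₂ h1).2 _ (X_rules hs)]; push_cast; rfl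

theorem Rm.sum {L μ : List ℤ} {a : ℤ} (h : Rm p L a μ) : μ.sum = L.sum - p := by
  have := h.sv (fun a => a) fun a => by simp
  rw [sm_id, sm_id] at this
  have h1 : ((μ.sum : ℤ) : ℚ) = ((L.sum - p : ℤ) : ℚ) := by rw [this]; push_cast; ring
  exact_mod_cast h1

theorem exists_rm (hp : 0 < p) {L : List ℤ} (hL : Strict L) {a : ℤ} (ha : Rv p L a) : ∃ μ, Rm p L a μ := by
  obtain ⟨e, N, h, -⟩ := exists_dec hp hL
  exact ⟨N a, (h a ha.1).1 ((h a ha.1).2 ha)⟩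

theorem exists_of_X (hp : 0 < p) {L : List ℤ} (hL : Strict L) {s : Multiset ℕ} (hs : ∀ i ∈ s, Odd i)
    (h0 : X (p ::ₘ s) L ≠ 0) : ∃ a μ, Rm p L a μ ∧ X s μ ≠ 0 := by
  obtain ⟨e, N, h, h1⟩ := exists_dec hp hL
  by_contra hn
  push Not at hn
  refine h0 (Int.cast_injective (α := ℚ) ?_)
  rw [h1 s hs, Int.cast_zero]
  refine List.sum_eq_zero fun x hx => ?_
  obtain ⟨a, ha, rfl⟩ := List.mem_map.1 hx
  by_cases he : e a = 0
  · simp [he]
  · simp [hn a _ ((h a ha).1 he)]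

/-- the coefficient of the raising -/
def cf' (p k : ℕ) (L μ : List ℤ) : ℚ := Z k fun s => H886.Spin.wt s * X s μ * X (p ::ₘ s) L

theorem cf'_iff (hp : 0 < p) {k : ℕ} {L μ : List ℤ} (hL : Strict L) (hμ : Strict μ) (hs : L.sum = k + p) :
    cf' p k L μ ≠ 0 ↔ ∃ a, Rm p L a μ := by
  classical
  obtain ⟨e, N, h, h1⟩ := exists_dec hp hL
  have h2 : cf' p k L μ = ∑ a ∈ L.toFinset, if e a ≠ 0 ∧ μ = N a then (e a : ℚ) * 2 ^ μ.length else 0 := by
    have h3 : cf' p k L μ = Z k fun s => ∑ a ∈ L.toFinset, e a * (H886.Spin.wt s * QQ s μ * QQ s (N a)) := by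
      refine Z_congr fun s _ _ => ?_
      by_cases ho : ∀ i ∈ s, Odd i
      · rw [h1 s ho, sm, ← List.sum_toFinset _ hL.nodup, Finset.mul_sum]
        refine Finset.sum_congr rfl fun a _ => ?_
        simp only [QQ, ← X_eq]
        ring
      · simp [H886.Spin.wt, ho]
    rw [h3, Z_finsum]
    refine Finset.sum_congr rfl fun a ha => ?_
    rw [Z_smul]
    by_cases he : e a = 0
    · simp [he]
    · have h4 := (h a (by simpa using ha)).1 he
      have h5 := W_strict (γ := μ) (β := N a) hμ h4.str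
      rw [W, if_pos (by rw [h4.sum]; omega), show (N a).sum.toNat = k by rw [h4.sum]; omega] at h5
      rw [h5]
      simp [he]
  rw [h2]
  refine ⟨fun h3 => ?_, fun ⟨a, ha⟩ => ?_⟩
  · obtain ⟨a, ha, h4⟩ := Finset.exists_ne_zero_of_sum_ne_zero h3
    have h5 : e a ≠ 0 ∧ μ = N a := by
      by_contra h5
      exact h4 (if_neg h5)
    exact ⟨a, h5.2 ▸ (h a (by simpa using ha)).1 h5.1⟩
  · have h3 := (h a ha.rv.1).2 ha.rv
    have h4 := (h a ha.rv.1).1 h3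
    have h5 : μ = N a := strict_ext hμ h4.str fun f hf => by rw [ha.sv f hf, h4.sv f hf]
    have h6 : ∀ c ∈ L.toFinset, c ≠ a → (if e c ≠ 0 ∧ μ = N c then (e c : ℚ) * 2 ^ μ.length else 0) = 0 :=
      fun c hc hne => if_neg fun h6 => hne (Rm.pos hp (h6.2 ▸ (h c (by simpa using hc)).1 h6.1) ha hL)
    rw [Finset.sum_eq_single_of_mem a (by simpa using ha.rv.1) h6, if_pos ⟨h3, h5⟩]
    exact mul_ne_zero (Int.cast_ne_zero.2 h3) (by positivity)

/-- a family of labels with partners -/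
structure Fm (p n : ℕ) (S : Set (List ℤ)) : Prop where
  str : ∀ L ∈ S, Strict L
  sum : ∀ L ∈ S, L.sum = n
  par : ∀ L ∈ S, ∀ a μ, Rm p L a μ → ∃ L' ∈ S, L' ≠ L ∧ ∃ a', Rm p L' a' μ

theorem Fm.not3 {n : ℕ} {S : Set (List ℤ)} (h : Fm p n S) (hp : 0 < p) (h3 : ∀ L ∈ S, ∀ L' ∈ S, pw 3 L = pw 3 L')
    {L : List ℤ} (hL : L ∈ S) {s : Multiset ℕ} (hs : ∀ i ∈ s, Odd i) : X (p ::ₘ s) L = 0 := by
  by_contra h0
  obtain ⟨a, μ, r, -⟩ := exists_of_X hp (h.str L hL) hs h0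
  obtain ⟨L', hL', hne, a', r'⟩ := h.par L hL a μ r
  refine hne (r.eq r' (h.str L hL) (h.str L' hL') ?_).symm
  have o3 : ∀ a : ℤ, ((-a : ℤ) : ℚ) ^ 3 = - (a : ℚ) ^ 3 := fun a => by push_cast; ring
  have h1 := r.sv (fun a => (a : ℚ) ^ 3) o3
  have h2 := r'.sv (fun a => (a : ℚ) ^ 3) o3
  have h4 := h3 L hL L' hL'
  simp only [pw] at h4
  have h5 : ((3 * p * ((a' - a) * (a' - (p - a))) : ℤ) : ℚ) = 0 := by
    push_cast at h1 h2 ⊢
    linear_combination h2 - h1 - h4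
  have h6 := (mul_eq_zero.1 (Int.cast_eq_zero.1 h5)).resolve_left (by omega)
  rcases mul_eq_zero.1 h6 with h7 | h7 <;> omega

/-- beads -/
def Bd (L : List ℤ) (x : ℤ) : Prop := (0 < x ∧ x ∈ L) ∨ (x < 0 ∧ -x ∉ L)

theorem Rm.mem {L μ : List ℤ} {a : ℤ} (h : Rm p L a μ) (hL : Strict L) {x : ℤ} (h1 : x ≠ a) (h2 : x ≠ -a)
    (h3 : x ≠ a - p) (h4 : x ≠ p - a) : x ∈ L ↔ x ∈ μ := by
  have h5 := h.sv _ (del_odd x)
  rw [sm_del hL, sm_del h.str, del, del, if_neg (c := a = x) (by omega), if_neg (c := a = -x) (by omega),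
    if_neg (c := a - p = x) (by omega), if_neg (c := a - p = -x) (by omega)] at h5
  have a1 : x ∈ L → -x ∉ L ∧ -x ∉ μ := fun e => ⟨fun e' => by have := hL.2 _ e; have := hL.2 _ e'; omega,
    fun e' => by have := hL.2 _ e; have := h.str.2 _ e'; omega⟩
  have a2 : x ∈ μ → -x ∉ L ∧ -x ∉ μ := fun e => ⟨fun e' => by have := h.str.2 _ e; have := hL.2 _ e'; omega,
    fun e' => by have := h.str.2 _ e; have := h.str.2 _ e'; omega⟩
  refine ⟨fun e => ?_, fun e => ?_⟩ <;> by_contra e'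
  · simp [e, e', (a1 e).1, (a1 e).2] at h5
  · simp [e, e', (a2 e).1, (a2 e).2] at h5

theorem Rm.bd {L μ : List ℤ} {a : ℤ} (h : Rm 3 L a μ) (hL : Strict L) (ha : ¬ 3 ∣ a) :
    ∃ y, y % 3 = 1 ∧ (y = a ∨ y = 3 - a) ∧ Bd L y ∧ ¬ Bd μ y ∧ Bd μ (y - 3) ∧
      ∀ x, x % 3 = 1 → x ≠ y → x ≠ y - 3 → (Bd L x ↔ Bd μ x) := by
  have h0 := hL.2 a h.rv.1
  have n1 : ∀ x, x < 0 → x ∉ L ∧ x ∉ μ := fun x hx =>
    ⟨fun e => by have := hL.2 _ e; omega, fun e => by have := h.str.2 _ e; omega⟩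
  have e1 : a ∉ μ := fun e => by
    have h5 := h.sv _ (del_odd a)
    rw [sm_del hL, sm_del h.str, del, del, if_pos e, if_pos h.rv.1, if_neg (n1 _ (by omega)).1,
      if_neg (n1 _ (by omega)).2, if_pos rfl, if_neg (by omega), if_neg (by omega), if_neg (by omega)] at h5
    norm_num at h5
  have e2 : 3 < a → a - 3 ∈ μ ∧ a - 3 ∉ L := fun k => by
    have k1 : a - 3 ∉ L := by
      rcases h.rv.2 with k' | k' | k'
      · exact k'.2
      · omega
      · have := hL.2 _ k'.2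
        omega
    refine ⟨?_, k1⟩
    by_contra e
    have h5 := h.sv _ (del_odd (a - 3))
    rw [sm_del hL, sm_del h.str, del, del, if_neg e, if_neg k1, if_neg (n1 _ (by omega)).1,
      if_neg (n1 _ (by omega)).2, if_neg (by omega), if_neg (by omega), if_pos (by omega), if_neg (by omega)] at h5
    norm_num at h5
  have e3 : a < 3 → a = 2 ∧ 1 ∈ L ∧ 1 ∉ μ := fun k => by
    have k1 : a = 2 ∧ 1 ∈ L := by
      rcases h.rv.2 with k' | k' | k'
      · omega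
      · omega
      · obtain rfl : a = 2 := by omega
        exact ⟨rfl, by simpa using k'.2⟩
    refine ⟨k1.1, k1.2, fun e => ?_⟩
    have h5 := h.sv _ (del_odd 1)
    rw [sm_del hL, sm_del h.str, if_pos e, if_pos k1.2, if_neg (n1 _ (by omega)).1, if_neg (n1 _ (by omega)).2,
      k1.1] at h5
    norm_num [del] at h5
  have e4 : ∀ x, x % 3 = 1 → x ≠ a → x ≠ -a → x ≠ a - 3 → x ≠ 3 - a → (Bd L x ↔ Bd μ x) := fun x _ x1 x2 x3 x4 => by
    rw [Bd, Bd, h.mem hL x1 x2 x3 x4, h.mem hL (x := -x) (by omega) (by omega) (by omega) (by omega)]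
  by_cases h1 : a % 3 = 1
  · have h2 : 3 < a := by
      by_contra k
      have := (e3 (by omega)).1
      omega
    refine ⟨a, h1, Or.inl rfl, Or.inl ⟨h0, h.rv.1⟩, ?_, Or.inl ⟨by omega, (e2 h2).1⟩,
      fun x x1 x2 x3 => e4 x x1 x2 (by omega) x3 (by omega)⟩
    rintro (k | k)
    · exact e1 k.2
    · omega
  · refine ⟨3 - a, by omega, Or.inr rfl, ?_, ?_, Or.inr ⟨by omega, by simpa using e1⟩,
      fun x x1 x2 x3 => e4 x x1 (by omega) (by omega) (by omega) x2⟩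
    · rcases lt_or_gt_of_ne (show a ≠ 3 by omega) with k | k
      · obtain ⟨rfl, k1, -⟩ := e3 k
        exact Or.inl ⟨by omega, k1⟩
      · exact Or.inr ⟨by omega, by simpa using (e2 k).2⟩
    · rcases lt_or_gt_of_ne (show a ≠ 3 by omega) with k | k
      · obtain ⟨rfl, -, k1⟩ := e3 k
        rintro (k' | k')
        · exact k1 k'.2
        · omega
      · rintro (k' | k')
        · omega
        · exact k'.2 (by simpa using (e2 k).1)

theorem bd_down {L : List ℤ} (h : ∀ a, Rv 3 L a → 3 ∣ a) {x : ℤ} (hx : x % 3 = 1) (hb : Bd L x) (k : ℕ) :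
    Bd L (x - 3 * k) := by
  induction k with
  | zero => simpa using hb
  | succ k ih =>
    generalize hy : x - 3 * (k : ℤ) = y at ih
    rw [show x - 3 * ((k + 1 : ℕ) : ℤ) = y - 3 by push_cast; omega]
    rcases ih with ih | ih
    · by_cases h1 : y = 1
      · subst h1
        refine Or.inr ⟨by omega, fun e => ?_⟩
        have := h 2 ⟨by simpa using e, Or.inr (Or.inr ⟨by omega, by simpa using ih.2⟩)⟩
        omega
      · refine Or.inl ⟨by omega, ?_⟩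
        by_contra e
        have := h y ⟨ih.2, Or.inl ⟨by omega, e⟩⟩
        omega
    · refine Or.inr ⟨by omega, fun e => ?_⟩
      have := h _ ⟨e, Or.inl ⟨by omega, by rw [show -(y - 3) - ((3 : ℕ) : ℤ) = -y by omega]; exact ih.2⟩⟩
      omega

theorem Rm.rv_iff {L μ : List ℤ} {a c : ℤ} (h : Rm 3 L a μ) (hL : Strict L) (hac : 3 ∣ a ↔ ¬ 3 ∣ c) :
    Rv 3 L c ↔ Rv 3 μ c := by
  rw [Rv, Rv, h.mem hL (x := c) (by omega) (by omega) (by omega) (by omega),
    h.mem hL (x := c - (3 : ℕ)) (by omega) (by omega) (by omega) (by omega),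
    h.mem hL (x := (3 : ℕ) - c) (by omega) (by omega) (by omega) (by omega)]

theorem Fm.not5 {n : ℕ} {S : Set (List ℤ)} (h : Fm 3 n S)
    (h5 : ∀ L ∈ S, ∀ L' ∈ S, pw 5 L + (55 / 3 - 10 * n) * pw 3 L = pw 5 L' + (55 / 3 - 10 * n) * pw 3 L')
    (hw : ∀ L ∈ S, ∃ s : Multiset ℕ, (∀ i ∈ s, Odd i) ∧ X (3 ::ₘ 3 ::ₘ s) L ≠ 0) : S = ∅ := by
  have key : ∀ L ∈ S, ∀ a μ, Rm 3 L a μ → ∃ L' ∈ S, ∃ a', Rm 3 L' a' μ ∧ (3 ∣ a ↔ ¬ 3 ∣ a') ∧
      (3 ∣ a → 9 ∣ (2 * a' - 3) ^ 2 - (24 * n - 62)) := by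
    intro L hL a μ r
    obtain ⟨L', hL', hne, a', r'⟩ := h.par L hL a μ r
    have o3 : ∀ a : ℤ, ((-a : ℤ) : ℚ) ^ 3 = - (a : ℚ) ^ 3 := fun a => by push_cast; ring
    have o5 : ∀ a : ℤ, ((-a : ℤ) : ℚ) ^ 5 = - (a : ℚ) ^ 5 := fun a => by push_cast; ring
    have h1 := r.sv (fun a => (a : ℚ) ^ 3) o3
    have h2 := r'.sv (fun a => (a : ℚ) ^ 3) o3
    have h3 := r.sv (fun a => (a : ℚ) ^ 5) o5
    have h4 := r'.sv (fun a => (a : ℚ) ^ 5) o5
    have h6 := h5 L hL L' hL'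
    simp only [pw] at h6
    have h7 : (((a' - a) * (a' - (3 - a)) * ((2 * a - 3) ^ 2 + (2 * a' - 3) ^ 2 - (24 * n - 62)) : ℤ) : ℚ) = 0 := by
      push_cast at h1 h2 h3 h4 ⊢
      linear_combination (4 / 15 : ℚ) * (h4 - h3 + (55 / 3 - 10 * n) * (h2 - h1) - h6)
    have h8 : (2 * a - 3) ^ 2 + (2 * a' - 3) ^ 2 = 24 * n - 62 := by
      refine sub_eq_zero.1 ((mul_eq_zero.1 (Int.cast_eq_zero.1 h7)).resolve_left fun e => ?_)
      refine hne (r.eq r' (h.str L hL) (h.str L' hL') ?_).symm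
      rcases mul_eq_zero.1 e with e | e <;> omega
    refine ⟨L', hL', a', r', ?_, fun ⟨k, hk⟩ => ⟨-(2 * k - 1) ^ 2, by rw [← h8, hk]; ring⟩⟩
    obtain ⟨q, r, hr, rfl⟩ : ∃ q r, (r = 0 ∨ r = 1 ∨ r = 2) ∧ a = 3 * q + r := ⟨a / 3, a % 3, by omega, by omega⟩
    obtain ⟨q', r', hr', rfl⟩ : ∃ q r, (r = 0 ∨ r = 1 ∨ r = 2) ∧ a' = 3 * q + r := ⟨a' / 3, a' % 3, by omega, by omega⟩
    rcases hr with rfl | rfl | rfl <;> rcases hr' with rfl | rfl | rfl <;> ring_nf at h8 <;> omega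
  by_contra hne
  obtain ⟨L₀, hL₀⟩ := Set.nonempty_iff_ne_empty.2 hne
  let f : ℤ → ℤ := fun a => if 3 ∣ a then a else 0
  have of : ∀ a : ℤ, ((f (-a) : ℤ) : ℚ) = - (f a : ℚ) := fun a => by
    simp only [f, dvd_neg]
    split_ifs <;> simp
  have cf : ∀ L : List ℤ, sm (fun a => (f a : ℚ)) L = ((L.map f).sum : ℤ) := fun L => by
    induction L with
    | nil => simp [sm]
    | cons a L ih => rw [sm_cons, ih]; simp
  obtain ⟨_, ⟨L, hL, rfl⟩, hmax⟩ := Int.exists_greatest_of_bdd (P := fun t => ∃ L ∈ S, (L.map f).sum = t)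
    ⟨n, by
      rintro _ ⟨L, hL, rfl⟩
      rw [← h.sum L hL]
      conv_rhs => rw [← List.map_id L]
      refine List.sum_le_sum fun a ha => ?_
      have := (h.str L hL).2 a ha
      simp only [f, id]
      split_ifs <;> omega⟩ ⟨_, L₀, hL₀, rfl⟩
  have sL := h.str L hL
  have c1 : ∀ a, Rv 3 L a → 3 ∣ a := fun a ha => by
    by_contra h3
    obtain ⟨μ, r⟩ := exists_rm (by norm_num) sL ha
    obtain ⟨L', hL', a', r', h1, -⟩ := key L hL a μ r
    have h2 : 3 ∣ a' := by tauto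
    have h4 := hmax _ ⟨L', hL', rfl⟩
    have h6 := r.sv (fun a => (f a : ℚ)) of
    have h7 := r'.sv (fun a => (f a : ℚ)) of
    rw [cf, cf] at h6 h7
    simp only [f, if_neg h3, if_pos h2, if_neg (show ¬ 3 ∣ a - (3 : ℕ) by omega),
      if_pos (show 3 ∣ a' - (3 : ℕ) by omega)] at h6 h7
    have h8 : (((L'.map f).sum : ℤ) : ℚ) = (((L.map f).sum + 3 : ℤ) : ℚ) := by
      push_cast at h6 h7 ⊢
      linarith
    have := Int.cast_injective h8
    omega
  obtain ⟨s, hs, hX⟩ := hw L hL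
  obtain ⟨a₁, μ, r₁, hX₁⟩ := exists_of_X (by norm_num) sL (fun i hi => by
    rcases Multiset.mem_cons.1 hi with rfl | hi
    exacts [by decide, hs i hi]) hX
  obtain ⟨a₂, ν, r₂, -⟩ := exists_of_X (by norm_num) r₁.str hs hX₁
  have d1 := c1 _ r₁.rv
  have c2 : ∀ a, Rv 3 μ a → 3 ∣ a := fun a ha => by
    by_contra h3
    exact h3 (c1 a ((r₁.rv_iff sL (by tauto)).2 ha))
  have d2 := c2 _ r₂.rv
  obtain ⟨L', hL', y, r', y1, y2⟩ := key L hL a₁ μ r₁
  have sL' := h.str L' hL'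
  obtain ⟨μ', r₃⟩ := exists_rm (by norm_num) sL' ((r'.rv_iff sL' (c := a₂) (by tauto)).2 r₂.rv)
  obtain ⟨L'', hL'', z, r'', z1, z2⟩ := key L' hL' a₂ μ' r₃
  obtain ⟨u, u1, u2, u3, u4, u5, u6⟩ := r'.bd sL' (y1.1 d1)
  obtain ⟨v, v1, v2, -, v4, v5, -⟩ := r''.bd (h.str _ hL'') (z1.1 d2)
  have t : ∀ x, x % 3 = 1 → (Bd L' x ↔ Bd μ' x) := fun x hx => by
    rw [Bd, Bd, r₃.mem sL' (x := x) (by omega) (by omega) (by omega) (by omega),
      r₃.mem sL' (x := -x) (by omega) (by omega) (by omega) (by omega)]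
  rw [← t v v1] at v4
  rw [← t _ (by omega)] at v5
  have m9 : 9 ∣ u - v := by
    have k1 : 9 ∣ (2 * u - 3) ^ 2 - (24 * n - 62) := by
      rcases u2 with rfl | rfl
      · exact y2 d1
      · convert y2 d1 using 2; ring
    have k2 : 9 ∣ (2 * v - 3) ^ 2 - (24 * n - 62) := by
      rcases v2 with rfl | rfl
      · exact z2 d2
      · convert z2 d2 using 2; ring
    have k3 := dvd_sub k1 k2
    obtain ⟨q, rfl⟩ : ∃ q, u = 3 * q + 1 := ⟨u / 3, by omega⟩
    obtain ⟨q', rfl⟩ : ∃ q, v = 3 * q + 1 := ⟨v / 3, by omega⟩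
    ring_nf at k3
    omega
  have hne' : v ≠ u := fun e => v4 (e ▸ u3)
  rw [u6 v v1 hne' (by omega)] at v4
  rw [u6 _ (by omega) (by omega) (by omega)] at v5
  rcases lt_or_gt_of_ne hne' with k | k
  · have := bd_down c2 (by omega) u5 ((u - 3 - v) / 3).toNat
    rw [show u - 3 - 3 * (((u - 3 - v) / 3).toNat : ℤ) = v by omega] at this
    exact v4 this
  · have := bd_down c2 (by omega) v5 ((v - 3 - u) / 3).toNat
    rw [show v - 3 - 3 * (((v - 3 - u) / 3).toNat : ℤ) = u by omega] at this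
    exact u4 this

end Cfsg.Agent.OM.Alt
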