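import Cfsg.Agent.OM.Alt.Base
import Cfsg.Agent.OM.Alt.Cont
import Cfsg.Agent.S2119

/-!
# OM (S4894), alternating groups: the blocks of weight at least two (helper19)
-/

set_option autoImplicit false
set_option linter.unusedSectionVars false

namespace Cfsg.Agent.OM.Alt

open Finset Cfsg Cfsg.Agent.H614 Cfsg.Agent.Characters.Core

variable {m : ℕ}

/-- the ratio at the type `s` is constant on the tuples of the colour of `κ` -/
def Cst (p n : ℕ) (κ : Fin m → ℕ) (s : Multiset ℕ) : Prop :=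
  ∀ β γ : Fin m → ℕ, StrictMono β → StrictMono γ → SameCol p κ β → SameCol p κ γ →
    ∑ i, β i = n + ∑ i : Fin m, (i : ℕ) → ∑ i, γ i = n + ∑ i : Fin m, (i : ℕ) →
    FM s β * FM (Multiset.replicate n 1) γ = FM s γ * FM (Multiset.replicate n 1) β

theorem exists_sort {β : Fin m → ℕ} (hβ : Function.Injective β) : ∃ (γ : Fin m → ℕ) (e : ℤ), e ≠ 0 ∧ StrictMono γ ∧
    (∀ q, SameCol q β γ) ∧ ∑ i, γ i = ∑ i, β i ∧ ∀ s, FM s γ = e * FM s β := by
  refine ⟨β ∘ Tuple.sort β, sg (Tuple.sort β), fun h => ?_,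
    (Tuple.monotone_sort β).strictMono_of_injective (hβ.comp (Tuple.sort β).injective),
    fun q => (sameCol_comp q β _).symm, Equiv.sum_comp (Tuple.sort β) β, fun s => FM_alt s _ β⟩
  have := sg_mul_self (Tuple.sort β)
  rw [h] at this
  simp at this

theorem Cst.eq {p n : ℕ} [Fact p.Prime] {κ : Fin m → ℕ} {s : Multiset ℕ} (h : Cst p n κ s) {c : ℚ}
    {f : (Fin m → ℕ) → ℚ} (hf : ∀ β : Fin m → ℕ, Function.Injective β → ∑ i, β i = n + ∑ i : Fin m, (i : ℕ) →
      (FM s β : ℚ) * c = FM (Multiset.replicate n 1) β * f β) {β γ : Fin m → ℕ} (hβ : Function.Injective β)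
    (hγ : Function.Injective γ) (h1 : ∀ k, β k % p = κ k % p) (h2 : ∀ k, γ k % p = κ k % p)
    (h3 : ∑ i, β i = n + ∑ i : Fin m, (i : ℕ)) (h4 : ∑ i, γ i = n + ∑ i : Fin m, (i : ℕ)) : f β = f γ := by
  obtain ⟨β', e, he, a1, a2, a3, a4⟩ := exists_sort hβ
  obtain ⟨γ', e', he', b1, b2, b3, b4⟩ := exists_sort hγ
  have h5 := h β' γ' a1 b1 ((sameCol_of_mod h1).symm.trans (a2 p)) ((sameCol_of_mod h2).symm.trans (b2 p))
    (a3.trans h3) (b3.trans h4)
  rw [a4, a4, b4, b4] at h5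
  have h6 : FM s β * FM (Multiset.replicate n 1) γ = FM s γ * FM (Multiset.replicate n 1) β :=
    mul_left_cancel₀ (mul_ne_zero he he') (by linear_combination h5)
  have h7 := congrArg (Int.cast : ℤ → ℚ) h6
  push_cast at h7
  have n1 : (FM (Multiset.replicate n 1) β : ℚ) ≠ 0 := Int.cast_ne_zero.2 (FM_ones_ne_zero hβ h3)
  have n2 : (FM (Multiset.replicate n 1) γ : ℚ) ≠ 0 := Int.cast_ne_zero.2 (FM_ones_ne_zero hγ h4)
  refine mul_left_cancel₀ (mul_ne_zero n1 n2) ?_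
  linear_combination c * h7 - (FM (Multiset.replicate n 1) γ : ℚ) * hf β hβ h3 +
    (FM (Multiset.replicate n 1) β : ℚ) * hf γ hγ h4

section core

variable {p n w : ℕ} [hp : Fact p.Prime] {κ : Fin m → ℕ}

theorem exists_top (hκ : StrictMono κ) (hw0 : ∑ j, κ j / p = npairs p κ)
    (hs : ∑ i, κ i = (n - p * w) + ∑ i : Fin m, (i : ℕ)) (hm : n + 2 * p ≤ m) {c : ℕ} (hc : c < p) :
    ∃ j, κ j % p = c ∧ Ground p κ j ∧ p ≤ κ j := by
  obtain ⟨j, h1, h2⟩ := exists_ground hκ.injective hw0 hc (mem_range_of_lt hκ hs (by omega))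
  refine ⟨j, h1, h2, ?_⟩
  by_contra h3
  obtain ⟨i, hi⟩ := mem_range_of_lt (x := c + p) hκ hs (by omega)
  have h4 := (h2 (c + p) (by rw [h1, Nat.add_mod_right, Nat.mod_eq_of_lt hc])).1 ⟨i, fun e => by subst e; omega, hi⟩
  omega

theorem not_cst3 (hκ : StrictMono κ) (hw0 : ∑ j, κ j / p = npairs p κ) (hpw : p * w ≤ n)
    (hs : ∑ i, κ i = (n - p * w) + ∑ i : Fin m, (i : ℕ)) (hm : n + 2 * p ≤ m) (hw : 2 ≤ w) :
    ¬ Cst p n κ (3 ::ₘ Multiset.replicate (n - 3) 1) := by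
  intro h
  have h2 := hp.out.two_le
  obtain ⟨d, hd⟩ := val3 m (n := n) (by nlinarith)
  have key := fun β γ => h.eq hd (β := β) (γ := γ)
  rcases h2.eq_or_lt with rfl | h3
  · obtain ⟨j, -, g, hj⟩ := exists_top hκ hw0 hs hm (c := 0) (by omega)
    obtain ⟨j', hj', e⟩ := (g (κ j - 2) (by omega)).2 (by omega)
    obtain ⟨v, rfl⟩ : ∃ v, w = v + 1 := ⟨w - 1, by omega⟩
    have i2 := (hook_TT hκ.injective g hj' (by omega) hw).1
    rw [Nat.add_sub_cancel] at i2
    have h4 := key _ _ (g.injective hκ.injective (v + 1)) i2 (up_mod (dvd_mul_right _ _) _ _)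
      (fun k => (up_mod dvd_rfl _ _ k).trans (up_mod (dvd_mul_right _ _) _ _ k)) (by rw [sum_up]; omega)
      (by rw [sum_up, sum_up]; omega)
    simp only [Pw_up, up_ne κ _ hj'] at h4
    have h5 : (κ j : ℚ) = κ j' + 2 := by exact_mod_cast (by omega : κ j = κ j' + 2)
    rw [h5] at h4
    push_cast at h4
    have h6 : ((v : ℚ) + 1) * (2 * κ j' + 2 * v + 5 - 2 * m) = 0 := by linear_combination (1 / 12 : ℚ) * h4
    rcases mul_eq_zero.1 h6 with h7 | h7
    · have : (0 : ℚ) < v + 1 := by positivity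
      exact this.ne' h7
    · have : 2 * κ j' + 2 * v + 5 = 2 * m := by exact_mod_cast sub_eq_zero.1 h7
      omega
  · have one : ∀ i j, Ground p κ i → Ground p κ j → κ i % p ≠ κ j % p → (κ i : ℚ) + κ j = 2 * m - 1 - p * w := by
      intro i j gi gj hne
      have h4 := key _ _ (gi.injective hκ.injective w) (gj.injective hκ.injective w) (up_mod (dvd_mul_right _ _) _ _)
        (up_mod (dvd_mul_right _ _) _ _) (by rw [sum_up]; omega) (by rw [sum_up]; omega)
      simp only [Pw_up] at h4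
      push_cast at h4
      have h5 : (κ i : ℚ) - κ j ≠ 0 := sub_ne_zero.2 fun e => hne (by rw [Nat.cast_injective e])
      have h6 : (3 * (p * w) : ℚ) ≠ 0 := by
        have : 0 < w := by omega
        positivity
      refine mul_left_cancel₀ (mul_ne_zero h6 h5) ?_
      linear_combination h4
    obtain ⟨j0, a0, g0, -⟩ := exists_top hκ hw0 hs hm (c := 0) (by omega)
    obtain ⟨j1, a1, g1, -⟩ := exists_top hκ hw0 hs hm (c := 1) (by omega)
    obtain ⟨j2, a2, g2, -⟩ := exists_top hκ hw0 hs hm (c := 2) (by omega)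
    have h5 : (κ j1 : ℚ) = κ j2 := by linarith [one _ _ g0 g1 (by omega), one _ _ g0 g2 (by omega)]
    have h6 : κ j1 = κ j2 := Nat.cast_injective h5
    rw [h6] at a1
    omega

theorem not_cst22 (hκ : StrictMono κ) (hw0 : ∑ j, κ j / 3 = npairs 3 κ) (hpw : 3 * w ≤ n)
    (hs : ∑ i, κ i = (n - 3 * w) + ∑ i : Fin m, (i : ℕ)) (hm : n + 2 * 3 ≤ m) (hw : 2 ≤ w) :
    ¬ Cst 3 n κ (2 ::ₘ 2 ::ₘ Multiset.replicate (n - 4) 1) := by
  intro h
  have : Fact (Nat.Prime 3) := ⟨Nat.prime_three⟩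
  obtain ⟨a, d, hd⟩ := val22 m (n := n) (by omega)
  obtain ⟨v, rfl⟩ : ∃ v, w = v + 1 := ⟨w - 1, by omega⟩
  have one : ∀ i j k, Ground 3 κ i → Ground 3 κ j → Ground 3 κ k → κ i % 3 ≠ κ j % 3 → κ i % 3 ≠ κ k % 3 →
      κ j % 3 ≠ κ k % 3 → 2 * (Pw κ 2 + 6 * v * κ i + 9 * v ^ 2) + a = 0 := by
    intro i j k gi gj gk h1 h2 h3
    have h4 := h.eq hd (ground_two hκ.injective gi gj h1 v 1).1 (ground_two hκ.injective gi gk h2 v 1).1
      (fun l => (up_mod (dvd_mul_right _ _) _ _ l).trans (up_mod (dvd_mul_right _ _) _ _ l))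
      (fun l => (up_mod (dvd_mul_right _ _) _ _ l).trans (up_mod (dvd_mul_right _ _) _ _ l))
      (by rw [sum_up, sum_up]; omega) (by rw [sum_up, sum_up]; omega)
    simp only [Pw_up, up_ne κ _ (show j ≠ i from fun e => h1 (by rw [e])),
      up_ne κ _ (show k ≠ i from fun e => h2 (by rw [e]))] at h4
    push_cast at h4
    have h5 : (6 : ℚ) * ((κ j : ℚ) - κ k) ≠ 0 :=
      mul_ne_zero (by norm_num) (sub_ne_zero.2 fun e => h3 (by rw [Nat.cast_injective e]))
    refine mul_left_cancel₀ h5 ?_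
    linear_combination h4
  obtain ⟨j0, a0, g0, -⟩ := exists_top hκ hw0 hs hm (c := 0) (by omega)
  obtain ⟨j1, a1, g1, -⟩ := exists_top hκ hw0 hs hm (c := 1) (by omega)
  obtain ⟨j2, a2, g2, -⟩ := exists_top hκ hw0 hs hm (c := 2) (by omega)
  have h1 := one _ _ _ g0 g1 g2 (by omega) (by omega) (by omega)
  have h2 := one _ _ _ g1 g0 g2 (by omega) (by omega) (by omega)
  have h3 : (12 * v : ℚ) ≠ 0 := by
    have : 0 < v := by omega
    positivity
  have h5 : (κ j0 : ℚ) = κ j1 := mul_left_cancel₀ h3 (by linear_combination h1 - h2)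
  have h6 : κ j0 = κ j1 := Nat.cast_injective h5
  omega

end core

section grp

variable {n p : ℕ} [hp : Fact p.Prime] {M : Ideal AlgInt}

/-- the elements of the alternating group with a given type -/
def cls (n : ℕ) (s : Multiset ℕ) : Set (alternatingGroup (Fin n)) := {x | ty (x : Equiv.Perm (Fin n)) = s}

theorem ty_conj' (g h : Equiv.Perm (Fin n)) : ty (h * g * h⁻¹) = ty g := isClassFunction_ty id g h

theorem cls_aut (hn : 4 ≤ n) (h6 : n ≠ 6) (s : Multiset ℕ) (α : MulAut (alternatingGroup (Fin n))) :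
    ∀ x ∈ cls n s, α x ∈ cls n s := by
  obtain ⟨g, rfl⟩ := (S2119.result n hn h6).2 α
  exact fun x hx => (ty_conj' _ g).trans hx

theorem one_ne {G : Type*} [Group G] (χ : IrrCharacter G) : (χ : G → ℂ) 1 ≠ 0 := by
  obtain ⟨h1, h2⟩ := charDegree_pos χ.2
  rw [h2]
  exact Nat.cast_ne_zero.2 h1.ne'

theorem cls_ne {t : Multiset ℕ} (h2 : ∀ i ∈ t, 2 ≤ i) (hs : t.sum ≤ n) (he : Even (t.sum + Multiset.card t)) :
    (cls n (t + Multiset.replicate (n - t.sum) 1)).Nonempty := by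
  obtain ⟨g, hg⟩ := (Equiv.Perm.exists_with_cycleType_iff (Fin n) (m := t)).2 ⟨by simpa using hs, h2⟩
  refine ⟨⟨g, ?_⟩, ?_⟩
  · rw [Equiv.Perm.mem_alternatingGroup, Equiv.Perm.sign_of_cycleType, hg, he.neg_one_pow]
  · change ty g = _
    rw [ty_eq, hg, Fintype.card_fin]

theorem ty_of_prime {g : Equiv.Perm (Fin n)} {r : ℕ} (hr : r.Prime) (h : orderOf g = r) :
    ∃ k, g.cycleType = Multiset.replicate (k + 1) r ∧ (k + 1) * r ≤ n := by
  obtain ⟨k, hk⟩ := Equiv.Perm.cycleType_prime_order (σ := g) (h ▸ hr)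
  rw [h] at hk
  have h1 := g.sum_cycleType_le
  rw [hk, Multiset.sum_replicate, Fintype.card_fin] at h1
  exact ⟨k, hk, h1⟩

theorem order_of_ty {g : Equiv.Perm (Fin n)} {t : Multiset ℕ} {k : ℕ} (h : ty g = t + Multiset.replicate k 1) :
    orderOf g = t.lcm := by
  have h1 : ∀ (s : Multiset ℕ) (j : ℕ), (s + Multiset.replicate j 1).lcm = s.lcm := fun s j => by
    rw [Multiset.lcm_add]
    refine dvd_antisymm (lcm_dvd dvd_rfl (Multiset.lcm_dvd.2 fun b hb => ?_)) (dvd_lcm_left _ _)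
    rw [Multiset.eq_of_mem_replicate hb]
    exact one_dvd _
  rw [← h1 t k, ← h, ty_eq, h1, Equiv.Perm.lcm_cycleType]

theorem cls_six (α : MulAut (alternatingGroup (Fin 6))) :
    ∀ x ∈ cls 6 (2 ::ₘ 2 ::ₘ Multiset.replicate (6 - 4) 1), α x ∈ cls 6 (2 ::ₘ 2 ::ₘ Multiset.replicate (6 - 4) 1) := by
  intro x hx
  have h1 : orderOf (x : Equiv.Perm (Fin 6)) = 2 := (order_of_ty (t := {2, 2}) (k := 2) hx).trans (by decide)
  have h2 : orderOf (α x : Equiv.Perm (Fin 6)) = 2 := by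
    rw [Subgroup.orderOf_coe] at h1 ⊢
    rw [α.orderOf_eq, h1]
  obtain ⟨k, hk, h3⟩ := ty_of_prime Nat.prime_two h2
  have h4 := Equiv.Perm.mem_alternatingGroup.1 (α x).2
  rw [Equiv.Perm.sign_of_cycleType, hk] at h4
  change ty (α x : Equiv.Perm (Fin 6)) = _
  rw [ty_eq, hk]
  have : k ≤ 2 := by omega
  interval_cases k
  · exact absurd h4 (by decide)
  · rfl
  · exact absurd h4 (by decide)

theorem cst_of (hM : IsPModular p M) {b : Set (IrrCharacter (alternatingGroup (Fin n)))} (hb : IsPBlock M b)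
    (h1 : OneA p b) {D : Subgroup (alternatingGroup (Fin n))} (hD : IsDefectGroup p M b D) (hc : ¬ IsCyclic D) :
    ∃ (w : ℕ) (κ : Fin (n + 2 * p) → ℕ), StrictMono κ ∧ ∑ j, κ j / p = npairs p κ ∧ p * w ≤ n ∧
      ∑ i, κ i = (n - p * w) + ∑ i : Fin (n + 2 * p), (i : ℕ) ∧ 2 ≤ w ∧
      ∀ s, (cls n s).Nonempty → (∀ i ∈ s, ¬ p ∣ i) → (∀ α : MulAut (alternatingGroup (Fin n)), ∀ x ∈ cls n s,
        α x ∈ cls n s) → Cst p n κ s := by
  classical
  have hMp : M.IsPrime := hM.2.1.isPrime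
  have hn := Fintype.card_fin n
  obtain ⟨BB, P, hBB, hP, hDP, -, hdown⟩ := exists_cover hM (alternatingGroup (Fin n)) hb hD
  obtain ⟨χ, hχ⟩ := Blocks.Basic.isPBlock_nonempty hBB
  obtain ⟨β, hβ, hs, hχβ⟩ := irr_eq (α := Fin n) (m := n + 2 * p) (by omega) χ.2
  obtain ⟨w, hw⟩ : ∃ w, ∑ j, β j / p = w + npairs p β :=
    ⟨_, (Nat.sub_add_cancel (npairs_le hp.out.pos hβ.injective)).symm⟩
  obtain ⟨κ, hκ, hκc, hκw, hpw, hκs, -⟩ := exists_core hp.out.pos hβ.injective hw hs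
  obtain ⟨z, -, -, -, hPc⟩ := defect_structure hM (by omega) hBB hβ hs hχ hχβ hw hP
  rw [hn] at hpw hκs
  refine ⟨w, κ, hκ, hκw, hpw, hκs, ?_, fun s ⟨g, hg⟩ hr ha γ δ hγ hδ cγ cδ sγ sδ => ?_⟩
  · by_contra hw2
    have h2 : Nat.card P ∣ p := by
      rw [hPc]
      interval_cases w <;> simp
    have : IsCyclic P := isCyclic_of_card_dvd_prime h2
    have e : D ≃* (P ⊓ alternatingGroup (Fin n) : Subgroup (Equiv.Perm (Fin n))) :=
      (MulEquiv.subgroupCongr hDP).trans (Subgroup.subgroupOfEquivOfLe inf_le_right)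
    have : IsCyclic (P ⊓ alternatingGroup (Fin n) : Subgroup (Equiv.Perm (Fin n))) := Subgroup.isCyclic_of_le inf_le_left
    exact hc (isCyclic_of_surjective _ e.symm.surjective)
  have hmem : ∀ γ : Fin (n + 2 * p) → ℕ, StrictMono γ → ∑ i, γ i = n + ∑ i : Fin (n + 2 * p), (i : ℕ) →
      SameCol p κ γ → ∃ ψ ∈ b, ((cls n s).ncard : ℂ) * FM s γ * (ψ : alternatingGroup (Fin n) → ℂ) 1 =
        ks (cls n s) ψ * FM (Multiset.replicate n 1) γ := by
    intro γ hγ hsγ hc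
    replace hsγ : ∑ i, γ i = Fintype.card (Fin n) + ∑ i : Fin (n + 2 * p), (i : ℕ) := by rw [hn, hsγ]
    obtain ⟨ψ, hψ, hi⟩ := hdown ⟨ch (Fin n) γ, isIrr_ch hγ hsγ⟩ (Blocks.Basic.isPBlock_mem_of_sameBlock hBB hχ (by
      rw [hχβ]
      exact sameBlock_of_sameCol hM hβ hγ hs hsγ (hκc.trans hc)))
    have h2 := ks_over _ (isIrr_ch hγ hsγ) ψ.2 hi (K := cls n s) fun g x =>
      ⟨fun hx => (ty_conj' _ g).trans hx, fun hx => (ty_conj' _ g).symm.trans hx⟩
    rw [ks_const (c := FM s γ) fun x hx => by rw [ch_apply, show ty _ = s from hx], ch_apply, ty_one, hn] at h2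
    exact ⟨ψ, hψ, h2⟩
  obtain ⟨ψ, hψ, e1⟩ := hmem γ hγ sγ cγ
  obtain ⟨φ, hφ, e2⟩ := hmem δ hδ sδ cδ
  have e3 := h1 (cls n s) ha (fun x hx => by
    rw [IsPRegular, ← Subgroup.orderOf_coe, pRegular_iff hp.out, Ep_eq_zero_iff (ty_pos _), show ty _ = s from hx]
    exact hr) ψ hψ φ hφ
  have n1 : ((cls n s).ncard : ℂ) ≠ 0 := Nat.cast_ne_zero.2 ((Set.ncard_pos (Set.toFinite _)).2 ⟨g, hg⟩).ne'
  have n2 := one_ne ψ
  have n3 := one_ne φ
  have e4 : (FM s γ : ℂ) * FM (Multiset.replicate n 1) δ = FM s δ * FM (Multiset.replicate n 1) γ := by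
    refine mul_left_cancel₀ (mul_ne_zero n1 (mul_ne_zero n2 n3)) ?_
    linear_combination ((φ : alternatingGroup (Fin n) → ℂ) 1 * FM (Multiset.replicate n 1) δ) * e1 -
      ((ψ : alternatingGroup (Fin n) → ℂ) 1 * FM (Multiset.replicate n 1) γ) * e2 +
      ((FM (Multiset.replicate n 1) γ : ℂ) * FM (Multiset.replicate n 1) δ) * e3
  exact_mod_cast e4

/-- **the alternating groups** -/
theorem cy_alt (hM : IsPModular p M) (hn : 5 ≤ n) (h : n = 6 → p ≠ 2) : Cy (alternatingGroup (Fin n)) p M := by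
  intro b hb _ h1 D hD
  by_contra hc
  obtain ⟨w, κ, hκ, h0, hpw, hs, hw, key⟩ := cst_of hM hb h1 hD hc
  by_cases h3 : p = 3
  · subst h3
    refine not_cst22 hκ h0 hpw hs le_rfl hw (key _ (cls_ne (t := {2, 2}) (by decide) (by simp; omega) (by decide))
      (fun i hi => ?_) ?_)
    · simp only [Multiset.mem_cons, Multiset.mem_replicate] at hi
      omega
    · by_cases h6 : n = 6
      · subst h6
        exact cls_six
      · exact cls_aut (by omega) h6 _
  · refine not_cst3 hκ h0 hpw hs le_rfl hw (key _ (cls_ne (t := {3}) (by decide) (by simp; omega) (by decide))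
      (fun i hi => ?_) (cls_aut (by omega) (fun h6 => ?_) _))
    · simp only [Multiset.mem_cons, Multiset.mem_replicate] at hi
      rcases hi with rfl | ⟨-, rfl⟩
      · exact fun e => h3 ((Nat.prime_dvd_prime_iff_eq hp.out Nat.prime_three).1 e)
      · exact hp.out.one_lt.ne' ∘ Nat.dvd_one.1
    · have h4 : p ≤ 3 := by nlinarith
      have := hp.out.two_le
      have := h h6
      omega

end grp

end Cfsg.Agent.OM.Alt
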