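import Cfsg.Agent.H614.Spin.Final
import Cfsg.Agent.OM.Alt.SpinC
import Cfsg.Agent.OM.Alt.Sym

/-!
# OM (S4894), spin blocks of the double covers of the alternating groups (helper19)
-/

set_option autoImplicit false
set_option linter.unusedSectionVars false

namespace Cfsg.Agent.OM.Alt

open Finset Cfsg Cfsg.Agent.H614 Cfsg.Agent.H614.Spin Cfsg.Agent.H886.Spin Cfsg.Agent.SporadicRecognition.AltCover
open scoped ComplexConjugate

variable {n : ℕ} {H : Type} [Group H] [Fintype H] {π : H →* alternatingGroup (Fin n)} {z : H}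

/-- the type of the image -/
def tp (π : H →* alternatingGroup (Fin n)) (x : H) : Multiset ℕ := ty (π x : Equiv.Perm (Fin n))

/-- `L` is the label of `ψ` -/
def Lab (π : H →* alternatingGroup (Fin n)) (b : H → ℂ) (τ : MulAut H) (ψ : H → ℂ) (L : List ℤ) : Prop :=
  Strict L ∧ L.sum = n ∧ ∃ j k : ℕ, ∀ x, (2 : ℂ) ^ j * (ψ x + ψ (τ x)) = 2 ^ k * (b x * X (tp π x) L)

/-- the spin data on the double cover of the alternating group -/
structure SD (π : H →* alternatingGroup (Fin n)) (z : H) (b : H → ℂ) (c : ℕ) (cj : Equiv.Perm (Fin n) → MulAut H) :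
    Prop where
  pi : ∀ g x, (π (cj g x) : Equiv.Perm (Fin n)) = g * π x * g⁻¹
  inv : ∀ g x, b (cj g x) = b x
  sq : ∀ x, (∀ i ∈ tp π x, Odd i) → b x * conj (b x) = 2 ^ (Multiset.card (tp π x) + c)
  van : ∀ x, ¬ (∀ i ∈ tp π x, Odd i) → b x = 0
  one : ∃ k : ℕ, b 1 = 2 ^ k
  dis : ∀ g x, Equiv.Perm.Disjoint g (π x) → cj g x = x
  sum : ∀ F : Equiv.Perm (Fin n) → ℂ, (∀ g, g ∉ alternatingGroup (Fin n) → F g = 0) → ∑ x, F (π x) = 2 * ∑ g, F g
  lab : ∀ g, g ∉ alternatingGroup (Fin n) → ∀ ψ : IrrCharacter H, (ψ : H → ℂ) z ≠ (ψ : H → ℂ) 1 →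
    ∃ L, Lab π b (cj g) ψ L

theorem exists_SD (hn : 5 ≤ n) (h : IsCover π z) : ∃ b c cj, SD π z b c cj := by
  classical
  obtain ⟨T, iT, fT, P, zT, b, e, hsp, hPe, hez⟩ := H686.Spin.exists_spinData hn h
  have := Fintype.ofFinite T
  choose t ht using hsp.surj
  let cj : Equiv.Perm (Fin n) → MulAut H := fun g => e.trans ((MulAut.conjNormal (t g)).trans e.symm)
  have hcj : ∀ g x, (e (cj g x) : T) = t g * e x * (t g)⁻¹ := fun g x => by simp [cj]
  refine ⟨fun x => b (e x), if Even n then 2 else 1, cj, fun g x => ?_, fun g x => ?_, fun x hx => ?_, fun x hx => ?_,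
    by simpa using hsp.one_pos, fun g x hd => ?_, fun F hF => ?_, fun g hg ψ hψ => ?_⟩
  · rw [← hPe, hcj, map_mul, map_mul, map_inv, ht, hPe]
  · simp only [hcj]
    exact hsp.isClass _ _
  · rw [tp, ← hPe] at hx ⊢
    exact hsp.sq _ hx
  · rw [tp, ← hPe] at hx
    exact hsp.van _ hx
  · refine e.injective (Subtype.ext ?_)
    rw [hcj, H112.Comm.comm_of_disjoint (fun g => ⟨_, ht g⟩) hsp.z_comm hsp.ker (by rwa [ht, hPe]) (e x).2,
      mul_inv_cancel_right]
  · rw [← sum_fibre (fun g => ⟨_, ht g⟩) hsp.z_ne hsp.ker F,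
      ← Finset.sum_filter_of_ne (p := fun x => x ∈ (alternatingGroup (Fin n)).comap P) fun x _ hx => by
        by_contra h1
        exact hx (hF _ h1),
      Finset.sum_subtype _ (p := fun x => x ∈ (alternatingGroup (Fin n)).comap P) (by simp)]
    exact Fintype.sum_equiv e.toEquiv _ _ fun x => by rw [← hPe]; rfl
  · obtain ⟨L, hL, hs, j, k, hl⟩ := exists_label (by omega) hsp (H649.irrMap e ψ) (fun x hx => by
      rw [show x = e z from Subtype.ext (by rw [hx, hez]), H649.irrMap_apply', H649.irrMap_one]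
      exact hψ) (t g) (by rwa [ht])
    refine ⟨L, hL, hs, j, k, fun x => ?_⟩
    have := hl (e x) (e (cj g x)) (hcj g x)
    rwa [H649.irrMap_apply', H649.irrMap_apply', hPe] at this

theorem eq_of_odd (h : IsCover π z) {x y : H} (hx : Odd (orderOf x)) (hy : Odd (orderOf y)) (hxy : π x = π y) :
    x = y := by
  rcases h.eq_or_of_map_eq hxy with h1 | h1
  · exact h1
  obtain ⟨k, hk⟩ := hx.mul hy
  have h2 : x ^ (orderOf x * orderOf y) = 1 := by rw [pow_mul, pow_orderOf_eq_one, one_pow]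
  have h3 : y ^ (orderOf x * orderOf y) = 1 := by rw [mul_comm, pow_mul, pow_orderOf_eq_one, one_pow]
  generalize orderOf x * orderOf y = m at hk h2 h3
  rw [h1, Commute.mul_pow (h.z_comm y), h3, one_mul, hk, pow_succ, pow_mul, pow_two, h.z_mul, one_pow, one_mul] at h2
  exact absurd h2 h.z_ne

theorem pow_eq (h : IsCover π z) (x : H) : x ^ (orderOf (π x) * 2) = 1 := by
  rcases (h.ker (x ^ orderOf (π x))).1 (by rw [map_pow, pow_orderOf_eq_one]) with h1 | h1 <;> rw [pow_mul, h1]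
  · exact one_pow _
  · rw [pow_two, h.z_mul]

/-- the elements of odd order of a given type -/
def kl (π : H →* alternatingGroup (Fin n)) (s : Multiset ℕ) : Set H := {x | Odd (orderOf x) ∧ π x ∈ cls n s}

theorem kl_aut (h : IsCover π z) (hc : ∀ x, x ∈ Subgroup.center H ↔ x = 1 ∨ x = z) {s : Multiset ℕ}
    (hs : ∀ α : MulAut (alternatingGroup (Fin n)), ∀ x ∈ cls n s, α x ∈ cls n s) (α : MulAut H) :
    ∀ x ∈ kl π s, α x ∈ kl π s := by
  have h1 : ∀ β : MulAut H, π.ker.map (β : H →* H) ≤ π.ker := by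
    rintro β _ ⟨x, hx, rfl⟩
    refine (h.ker _).2 ((hc _).1 (Subgroup.mem_center_iff.2 fun g => ?_))
    obtain ⟨y, rfl⟩ := β.surjective g
    have := Subgroup.mem_center_iff.1 ((hc x).2 ((h.ker x).1 hx)) y
    simpa using congrArg β this
  have h2 : π.ker.map (α : H →* H) = π.ker :=
    le_antisymm (h1 α) fun x hx => ⟨α⁻¹ x, h1 α⁻¹ ⟨x, hx, rfl⟩, by simp⟩
  let e := QuotientGroup.quotientKerEquivOfSurjective π h.surj
  intro x hx
  refine ⟨by rw [α.orderOf_eq]; exact hx.1, ?_⟩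
  have h3 := hs (e.symm.trans ((QuotientGroup.congr _ _ α h2).trans e)) _ hx.2
  have h4 : e.symm (π x) = (x : H ⧸ π.ker) := e.symm_apply_eq.2 rfl
  simp only [MulEquiv.trans_apply, h4] at h3
  exact h3

section

variable {b : H → ℂ} {c : ℕ} {cj : Equiv.Perm (Fin n) → MulAut H} {p : ℕ} [hp : Fact p.Prime] {M : Ideal AlgInt}

theorem SD.tp (S : SD π z b c cj) (g : Equiv.Perm (Fin n)) (x : H) : tp π (cj g x) = tp π x := by
  rw [Alt.tp, S.pi, ty_conj']
  rfl

theorem tp_one : tp π 1 = Multiset.replicate n 1 := by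
  rw [tp, map_one, OneMemClass.coe_one, ty_one, Fintype.card_fin]

theorem SD.ratio (S : SD π z b c cj) (h : IsCover π z) {s : Multiset ℕ} (hs : ∀ i ∈ s, Odd i) (hne : (cls n s).Nonempty)
    {g : Equiv.Perm (Fin n)} {ψ φ : H → ℂ} {L N : List ℤ} (h1 : Lab π b (cj g) ψ L) (h2 : Lab π b (cj g) φ N)
    (h3 : ks (kl π s) ψ * φ 1 = ks (kl π s) φ * ψ 1) :
    (X s L : ℚ) * X (Multiset.replicate n 1) N = X s N * X (Multiset.replicate n 1) L := by
  classical
  obtain ⟨a, ha⟩ := hne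
  obtain ⟨x₀, rfl⟩ := h.surj a
  have ho : Odd (orderOf (π x₀)) := by
    rw [← Subgroup.orderOf_coe, ← Nat.not_even_iff_odd, even_iff_two_dvd, pRegular_iff Nat.prime_two,
      Ep_eq_zero_iff (ty_pos _), show ty _ = s from ha]
    exact fun i hi => (hs i hi).not_two_dvd_nat
  have hx : x₀ ^ (orderOf (π x₀) + 1) ∈ kl π s := by
    refine ⟨Odd.of_dvd_nat ho (orderOf_dvd_of_pow_eq_one ?_), by rw [map_pow, pow_succ, pow_orderOf_eq_one, one_mul]; exact ha⟩
    obtain ⟨k, hk⟩ := ho.add_one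
    rw [← pow_mul, hk, show (k + k) * orderOf (π x₀) = orderOf (π x₀) * 2 * k by ring, pow_mul, pow_eq h, one_pow]
  generalize x₀ ^ (orderOf (π x₀) + 1) = x at hx
  have hb : ∀ y ∈ kl π s, b y = b x := fun y hy => by
    obtain ⟨u, hu⟩ := isConj_iff.1 ((ty_eq_iff _ _).1 ((show ty _ = s from hx.2).trans (show ty _ = s from hy.2).symm))
    rw [← S.inv u x]
    congr 1
    exact eq_of_odd h hy.1 (by rw [(cj u).orderOf_eq]; exact hx.1) (Subtype.ext (by rw [S.pi, hu]))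
  have hb0 : b x ≠ 0 := fun e => by
    have := S.sq x (by rw [Alt.tp, show ty _ = s from hx.2]; exact hs)
    rw [e, zero_mul] at this
    exact pow_ne_zero _ two_ne_zero this.symm
  have hK : ((kl π s).ncard : ℂ) ≠ 0 := Nat.cast_ne_zero.2 ((Set.ncard_pos (Set.toFinite _)).2 ⟨x, hx⟩).ne'
  obtain ⟨k₀, hk₀⟩ := S.one
  have key : ∀ {ψ : H → ℂ} {L : List ℤ}, Lab π b (cj g) ψ L → ∃ u : ℂ, u ≠ 0 ∧
      ks (kl π s) ψ = u * ((kl π s).ncard * (b x * X s L)) ∧ ψ 1 = u * (2 ^ k₀ * X (Multiset.replicate n 1) L) := by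
    rintro ψ L ⟨-, -, j, k, hl⟩
    have h2 : (2 : ℂ) ^ (j + 1) ≠ 0 := pow_ne_zero _ two_ne_zero
    refine ⟨2 ^ k / 2 ^ (j + 1), div_ne_zero (pow_ne_zero _ two_ne_zero) h2, ?_, ?_⟩
    · have e1 : ks (kl π s) (fun y => ψ (cj g y)) = ks (kl π s) ψ := ks_equiv (cj g).toEquiv (fun y => by
        change _ ↔ Odd (orderOf (cj g y)) ∧ Alt.tp π (cj g y) = s
        rw [(cj g).orderOf_eq, S.tp]
        rfl) ψ
      have e2 := ks_const (K := kl π s) (θ := fun y => 2 ^ j * (ψ y + ψ (cj g y))) (c := 2 ^ k * (b x * X s L))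
        fun y hy => by rw [hl, hb y hy, show Alt.tp π y = s from hy.2]
      have e3 : ks (kl π s) (fun y => 2 ^ j * (ψ y + ψ (cj g y))) =
          2 ^ j * (ks (kl π s) ψ + ks (kl π s) fun y => ψ (cj g y)) := by
        simp only [ks_eq, ← Finset.sum_add_distrib, Finset.mul_sum]
        exact Finset.sum_congr rfl fun y _ => by split_ifs <;> simp
      rw [e3, e1] at e2
      field_simp
      linear_combination e2
    · have e1 := hl 1
      rw [map_one, hk₀, tp_one] at e1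
      field_simp
      linear_combination e1
  obtain ⟨u, hu, a1, a2⟩ := key h1
  obtain ⟨v, hv, b1, b2⟩ := key h2
  rw [a1, a2, b1, b2] at h3
  have h4 : (X s L : ℂ) * X (Multiset.replicate n 1) N = X s N * X (Multiset.replicate n 1) L :=
    mul_left_cancel₀ (mul_ne_zero (mul_ne_zero hu hv) (mul_ne_zero (mul_ne_zero hK hb0)
      (pow_ne_zero k₀ (two_ne_zero (α := ℂ))))) (by linear_combination h3)
  exact_mod_cast h4

theorem SD.inner (S : SD π z b c cj) (hp2 : p ≠ 2) (hpn : p ≤ n) (μ : List ℤ) {g : Equiv.Perm (Fin n)} {ψ : H → ℂ}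
    {L : List ℤ} (h1 : Lab π b (cj g) ψ L) : ∃ u : ℚ, 0 < u ∧
      ψ 1 * ∑ y, b y * ((p * (Alt.tp π y).count p : ℕ) * X ((Alt.tp π y).erase p) μ) * conj (ψ y) =
        (u * cf' p (n - p) L μ : ℚ) := by
  obtain ⟨hL, hs, j, k, hl⟩ := h1
  obtain ⟨k₀, hk₀⟩ := S.one
  let f : Multiset ℕ → ℚ := fun s => (p * s.count p : ℕ) * (H886.Spin.wt s * X (s.erase p) μ * X s L)
  have e1 : Z n f = 2 * cf' p (n - p) L μ := by
    rw [Z_mark hp.out.pos hpn, cf', ← Z_smul]
    refine Z_congr fun s _ _ => ?_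
    rw [H886.Spin.wt_cons, Multiset.erase_cons_head, oq, od, if_pos (hp.out.odd_of_ne_two hp2)]
    push_cast
    ring
  have e2 := congrArg (Rat.cast : ℚ → ℂ) (sum_perm (α := Fin n) f)
  rw [Fintype.card_fin, e1, Rat.cast_sum] at e2
  have e3 := S.sum (fun g => (f (ty g) : ℂ)) fun g hg => by
    simp only [f, H886.Spin.wt]
    rw [if_neg fun h => hg (sign_of_odd h)]
    simp
  generalize hΦ : (fun y => b y * ((p * (Alt.tp π y).count p : ℕ) * X ((Alt.tp π y).erase p) μ : ℂ)) = Φ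
  simp only [show ∀ y, b y * ((p * (Alt.tp π y).count p : ℕ) * X ((Alt.tp π y).erase p) μ : ℂ) = Φ y from
    congrFun hΦ]
  have e4 : ∑ y, Φ y * conj (ψ (cj g y)) = ∑ y, Φ y * conj (ψ y) :=
    Fintype.sum_equiv (cj g).toEquiv _ _ fun y => by
      change _ = Φ (cj g y) * conj (ψ (cj g y))
      rw [← hΦ]
      simp only [S.tp, S.inv]
  have e5 : ∀ y, 2 ^ j * (Φ y * conj (ψ y) + Φ y * conj (ψ (cj g y))) = 2 ^ (k + c) * (f (Alt.tp π y) : ℂ) := fun y => by
    have h2 := congrArg conj (hl y)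
    simp only [map_mul, map_add, map_pow, map_ofNat, map_intCast] at h2
    rw [← mul_add, mul_left_comm, h2, ← hΦ]
    simp only [f]
    push_cast
    rw [wtC]
    split_ifs with ho
    · have h3 := S.sq y ho
      rw [pow_add] at h3 ⊢
      linear_combination (2 ^ k * (p * (Alt.tp π y).count p * X ((Alt.tp π y).erase p) μ * X (Alt.tp π y) L) : ℂ) * h3
    · rw [S.van y ho]
      simp
  have e6 := Finset.sum_congr rfl fun y (_ : y ∈ univ) => e5 y
  rw [← Finset.mul_sum, ← Finset.mul_sum, Finset.sum_add_distrib, e4] at e6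
  have e7 := hl 1
  rw [map_one, hk₀, tp_one] at e7
  have h0 : (0 : ℚ) < X (Multiset.replicate n 1) L := by exact_mod_cast X_ones_pos n hL hs
  refine ⟨2 ^ k * 2 ^ k₀ * X (Multiset.replicate n 1) L * 2 ^ (k + c) * n.factorial / (2 ^ j) ^ 2, by positivity, ?_⟩
  simp only [Alt.tp] at e6
  rw [e3, e2] at e6
  push_cast at e6 ⊢
  have h2 : (2 : ℂ) ^ j ≠ 0 := pow_ne_zero _ two_ne_zero
  field_simp
  linear_combination (2 ^ j * ψ 1 / 2) * e6 + (2 ^ (k + c) * n.factorial * (cf' p (n - p) L μ : ℂ)) * e7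

theorem SD.fm (S : SD π z b c cj) (hp2 : p ≠ 2) (hpn : p ≤ n) (hM : IsPModular p M) {B : Set (IrrCharacter H)}
    (hB : IsPBlock M B) {g : Equiv.Perm (Fin n)} {l : IrrCharacter H → List ℤ} (hl : ∀ ψ ∈ B, Lab π b (cj g) ψ (l ψ)) :
    Fm p n (l '' B) := by
  classical
  refine ⟨?_, ?_, ?_⟩
  · rintro _ ⟨ψ, hψ, rfl⟩
    exact (hl ψ hψ).1
  · rintro _ ⟨ψ, hψ, rfl⟩
    exact (hl ψ hψ).2.1
  rintro _ ⟨ψ, hψ, rfl⟩ a μ r
  choose! u hu using fun ψ hψ => S.inner hp2 hpn μ (hl ψ hψ)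
  have hs : ∀ ψ ∈ B, (l ψ).sum = (n - p : ℕ) + p := fun ψ hψ => by rw [(hl ψ hψ).2.1]; omega
  obtain ⟨φ, hφ, h1⟩ := partner hM hB (fun y hy => by
    rw [Multiset.count_eq_zero.2 fun e => ?_]
    · simp
    have h2 : ¬ p ∣ orderOf (π y : Equiv.Perm (Fin n)) := fun e' =>
      hy (e'.trans (by rw [Subgroup.orderOf_coe]; exact orderOf_map_dvd π y))
    rw [pRegular_iff hp.out, Ep_eq_zero_iff (ty_pos _)] at h2
    exact h2 p e dvd_rfl) (fun ψ hψ => (hu ψ hψ).2) hψ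
    (mul_ne_zero (hu ψ hψ).1.ne' ((cf'_iff hp.out.pos (hl ψ hψ).1 r.str (hs ψ hψ)).2 ⟨a, r⟩))
  refine ⟨l φ, ⟨φ, hφ, rfl⟩, fun e => ?_, (cf'_iff hp.out.pos (hl φ hφ).1 r.str (hs φ hφ)).1 fun e => ?_⟩
  · rw [e] at h1
    nlinarith [mul_nonneg (mul_pos (hu ψ hψ).1 (hu φ hφ).1).le (mul_self_nonneg (cf' p (n - p) (l ψ) μ))]
  · simp [e] at h1

theorem cls_five (α : MulAut (alternatingGroup (Fin 6))) :
    ∀ x ∈ cls 6 (5 ::ₘ Multiset.replicate (6 - 5) 1), α x ∈ cls 6 (5 ::ₘ Multiset.replicate (6 - 5) 1) := by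
  intro x hx
  have h1 : orderOf (x : Equiv.Perm (Fin 6)) = 5 := (order_of_ty (t := {5}) (k := 1) hx).trans (by decide)
  have h2 : orderOf (α x : Equiv.Perm (Fin 6)) = 5 := by
    rw [Subgroup.orderOf_coe] at h1 ⊢
    rw [α.orderOf_eq, h1]
  obtain ⟨k, hk, h3⟩ := ty_of_prime Nat.prime_five h2
  change ty (α x : Equiv.Perm (Fin 6)) = _
  obtain rfl : k = 0 := by omega
  rw [ty_eq, hk]
  rfl

/-- **the double covers** -/
theorem cy_spin (hM : IsPModular p M) (hn : 5 ≤ n) (hp2 : p ≠ 2) (h : IsCover π z)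
    (hc : ∀ x, x ∈ Subgroup.center H ↔ x = 1 ∨ x = z) : Cy H p M := by
  classical
  intro B hB hfa h1 D hD
  by_contra hcy
  have : Nontrivial (Fin n) := Fin.nontrivial_iff_two_le.2 (by omega)
  have hMp : M.IsPrime := hM.2.1.isPrime
  let f : H →* Equiv.Perm (Fin n) := (alternatingGroup (Fin n)).subtype.comp π
  have hf : ∀ x, f x = (π x : Equiv.Perm (Fin n)) := fun _ => rfl
  have hker : ∀ x, f x = 1 ↔ x = 1 ∨ x = z := fun x => by rw [hf, OneMemClass.coe_eq_one, h.ker]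
  have hkc : f.ker ≤ Subgroup.center H := fun x hx => (hc x).2 ((hker x).1 hx)
  have hkcard : Nat.card f.ker = 2 := by
    have h1 : (f.ker : Set H) = {1, z} := by
      ext x; exact hker x
    have h2 : Nat.card f.ker = (f.ker : Set H).ncard := rfl
    rw [h2, h1, Set.ncard_pair h.z_ne.symm]
  have hkp : ¬ p ∣ Nat.card f.ker := by
    rw [hkcard]
    exact fun h1 => hp2 ((Nat.prime_dvd_prime_iff_eq hp.out Nat.prime_two).1 h1)
  have hpodd : Odd p := hp.out.odd_of_ne_two hp2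
  have hDp : IsPGroup p D := Blocks.Basic.isPGroup_of_isDefectGroup hD
  obtain ⟨g, hgreg, hDg, hne⟩ := exists_defect_elt hM hB hD
  obtain ⟨u, huD, hDu, ⟨w, hw⟩, hsup, hdis⟩ := H886.Full.exists_full (p := p) f hkc hkp hDp
    (fun Q hQ _ hQN hn' => radical hM hB hD Q hQ hQN hn') (by
      rintro σ ⟨k, hk⟩
      have h1 : (Equiv.Perm.sign σ) ^ (p ^ k) = 1 := by
        rw [← map_pow, ← hk, pow_orderOf_eq_one, map_one]
      have h2 : Equiv.Perm.sign σ = 1 := by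
        rcases Int.units_eq_one_or (Equiv.Perm.sign σ) with h | h
        · exact h
        · rw [h, (hpodd.pow : Odd (p ^ k)).neg_one_pow] at h1
          exact absurd h1 (by decide)
      obtain ⟨x, hx⟩ := h.surj ⟨σ, Equiv.Perm.mem_alternatingGroup.2 h2⟩
      exact ⟨x, by rw [hf, hx]⟩)
  have hcs : #(f u).support = p * w := by
    rw [← Equiv.Perm.sum_cycleType, hw, Multiset.sum_replicate, smul_eq_mul, mul_comm]
  have hw2 : 2 ≤ w := by
    by_contra hw2
    have hd := S0908.result p M hM B hB D hD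
    have hd1 := card_le_of_supp f hkp hd (S := (f u).support) (by
      rw [hcs]
      calc p * w ≤ p * 1 := Nat.mul_le_mul_left _ (by omega)
        _ = p := mul_one p) hsup
    exact hcy (isCyclic_of_card_dvd_prime (p := p) (by rw [hd]; simpa using pow_dvd_pow p hd1))
  have hpn : p * w ≤ n := by simpa [hcs] using Finset.card_le_univ (f u).support
  obtain ⟨b, c, cj, S⟩ := exists_SD hn h
  obtain ⟨τ, hτs, hτc, hτsup⟩ := H112.Comm.exists_odd_swap hw2 hw
  choose! l hl using fun (ψ : IrrCharacter H) (hψ : ψ ∈ B) => S.lab τ (by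
    rw [Equiv.Perm.mem_alternatingGroup, hτs]
    decide) ψ fun e => h.z_ne (hfa ψ hψ z h.mem_center e)
  have hF := S.fm hp2 (by nlinarith) hM hB hl
  have hug : cj τ (u * g) = u * g := by
    obtain ⟨m, hm⟩ := hDp ⟨u, huD⟩
    have ho : Odd (orderOf u) := Odd.of_dvd_nat (hpodd.pow (n := m)) (orderOf_dvd_of_pow_eq_one (Subtype.ext_iff.1 hm))
    rw [map_mul, S.dis τ g (by
      rw [Equiv.Perm.disjoint_iff_disjoint_support]
      exact Finset.disjoint_of_subset_left hτsup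
        (Equiv.Perm.disjoint_iff_disjoint_support.1 (hdis g hgreg hDg))),
      eq_of_odd h (x := cj τ u) (by rwa [(cj τ).orderOf_eq]) ho (Subtype.ext (by
        rw [S.pi, ← hf, hτc, mul_inv_cancel_right]))]
  have hX : ∃ s : Multiset ℕ, (∀ i ∈ s, Odd i) ∧ ∀ L ∈ l '' B, X (p ::ₘ p ::ₘ s) L ≠ 0 := by
    obtain ⟨v, rfl⟩ : ∃ v, w = v + 2 := ⟨w - 2, by omega⟩
    have h2 : ∃ s, tp π (u * g) = p ::ₘ p ::ₘ s := by
      rw [tp, ← hf, map_mul, ty_eq, (hdis g hgreg hDg).cycleType_mul, hw, Multiset.replicate_succ,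
        Multiset.replicate_succ]
      simp only [Multiset.cons_add]
      exact ⟨_, rfl⟩
    obtain ⟨s, hs⟩ := h2
    have h3 : ∀ ψ ∈ B, b (u * g) * (X (tp π (u * g)) (l ψ) : ℂ) ≠ 0 := fun ψ hψ e => by
      obtain ⟨-, -, j, k, h4⟩ := hl ψ hψ
      have h5 := h4 (u * g)
      rw [e, hug, mul_zero, ← two_mul] at h5
      exact mul_ne_zero (pow_ne_zero _ two_ne_zero) (mul_ne_zero two_ne_zero (hne u huD hDu ψ hψ)) h5
    obtain ⟨ψ, hψ⟩ := Blocks.Basic.isPBlock_nonempty hB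
    refine ⟨s, fun i hi => ?_, ?_⟩
    · by_contra h4
      exact h3 ψ hψ (by rw [S.van _ fun h5 => h4 (h5 i (by simp [hs, hi])), zero_mul])
    · rintro _ ⟨ψ, hψ, rfl⟩ e
      exact h3 ψ hψ (by rw [hs, e]; simp)
  obtain ⟨s, hs, hX⟩ := hX
  obtain ⟨ψ₀, hψ₀⟩ := Blocks.Basic.isPBlock_nonempty hB
  have key : ∀ r : ℕ, Odd r → 2 ≤ r → r ≤ n → ¬ p ∣ r → (∀ α : MulAut (alternatingGroup (Fin n)),
      ∀ x ∈ cls n (r ::ₘ Multiset.replicate (n - r) 1), α x ∈ cls n (r ::ₘ Multiset.replicate (n - r) 1)) →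
      ∀ (d : ℚ) (F : List ℤ → ℚ), (∀ L, Strict L → L.sum = n →
        (X (r ::ₘ Multiset.replicate (n - r) 1) L : ℚ) * d = X (Multiset.replicate n 1) L * F L) →
      ∀ L ∈ l '' B, ∀ L' ∈ l '' B, F L = F L' := by
    rintro r hr h2 hrn hpr ha d F hFF _ ⟨ψ, hψ, rfl⟩ _ ⟨φ, hφ, rfl⟩
    have h3 := S.ratio h (odd_cons hr (n - r)) (cls_ne (t := {r}) (by simpa) (by simpa) (by simpa using hr.add_one))
      (hl ψ hψ) (hl φ hφ) (h1 _ (kl_aut h hc ha) (fun x hx e => by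
        have h4 : orderOf (π x) = r := by
          rw [← Subgroup.orderOf_coe, order_of_ty (t := {r}) hx.2]
          simp
        have h5 := e.trans (orderOf_dvd_of_pow_eq_one (pow_eq h x))
        rw [h4, hp.out.dvd_mul] at h5
        exact h5.elim hpr (hkcard ▸ hkp)) ψ hψ φ hφ)
    have n1 : (X (Multiset.replicate n 1) (l ψ) : ℚ) ≠ 0 :=
      Int.cast_ne_zero.2 (X_ones_pos n (hl ψ hψ).1 (hl ψ hψ).2.1).ne'
    have n2 : (X (Multiset.replicate n 1) (l φ) : ℚ) ≠ 0 :=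
      Int.cast_ne_zero.2 (X_ones_pos n (hl φ hφ).1 (hl φ hφ).2.1).ne'
    refine mul_left_cancel₀ (mul_ne_zero n1 n2) ?_
    linear_combination d * h3 - (X (Multiset.replicate n 1) (l φ) : ℚ) * hFF _ (hl ψ hψ).1 (hl ψ hψ).2.1 +
      (X (Multiset.replicate n 1) (l ψ) : ℚ) * hFF _ (hl φ hφ).1 (hl φ hφ).2.1
  by_cases h3 : p = 3
  · subst h3
    have h4 := hF.not5 (fun L hL L' hL' => add_right_cancel (key 5 (by decide) (by decide) hn (by decide) ?_ _ _
      (fun L a1 a2 => sval5 hn a1 a2) L hL L' hL')) fun L hL => ⟨s, hs, hX L hL⟩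
    · exact Set.not_nonempty_iff_eq_empty.2 h4 ⟨_, ψ₀, hψ₀, rfl⟩
    · by_cases h6 : n = 6
      · subst h6
        exact cls_five
      · exact cls_aut (by omega) h6 _
  · refine hX _ ⟨ψ₀, hψ₀, rfl⟩ (hF.not3 hp.out.pos (fun L hL L' hL' => add_right_cancel (key 3 (by decide) (by decide)
      (by omega) (fun e => h3 ((Nat.prime_dvd_prime_iff_eq hp.out Nat.prime_three).1 e))
      (cls_aut (by omega) (fun h6 => ?_) _) _ _ (fun L a1 a2 => sval3 (by omega) a1 a2) L hL L' hL')) ⟨ψ₀, hψ₀, rfl⟩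
      fun i hi => ?_)
    · have h4 : p ≤ 3 := by nlinarith
      have := hp.out.two_le
      omega
    · rcases Multiset.mem_cons.1 hi with rfl | hi
      exacts [hpodd, hs i hi]

end

end Cfsg.Agent.OM.Alt
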