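import Cfsg.Agent.OM.Rows
import Cfsg.Agent.OM.Alt.SpinG
import Cfsg.Agent.OM.Alt.Exc

/-!
# OM (S4894): the row of the alternating groups (helper19)
-/

set_option autoImplicit false

namespace Cfsg.Agent.OM.Alt

open Cfsg Subgroup Cfsg.Agent.KM Cfsg.Agent.BZ Cfsg.Agent.H107.AltBlk

/-- **the alternating groups** -/
theorem rowN_alt : For RowN CAlt := by
  rintro p hp S _ _ _ - ⟨n, hn, ⟨f⟩⟩ X _ _ σ M Γ b D H
  have := Fintype.ofFinite X
  have hq := H.sit.qs
  have hc := hq.1.commutator_eq_top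
  have e : X ⧸ center X ≃* alternatingGroup (Fin n) :=
    ((QuotientGroup.quotientMulEquivOfEq H.ker.symm).trans (QuotientGroup.quotientKerEquivOfSurjective σ H.surj)).trans f
  have key : ¬ Cy X p M := fun h => H.nc (h b H.hb H.faith (oneA_of_one H.one) D H.hD)
  have h0 := H.sit.ndvd
  by_cases h1 : Nat.card (center X) = 1
  · by_cases h2 : n = 6 ∧ p = 2
    · obtain ⟨rfl, rfl⟩ := h2
      obtain ⟨θ, h3, h4⟩ := six_one H.hM e h1 H.hb H.hD H.nc
      obtain ⟨x, hx⟩ := H.np θ h3
      exact hx (h4 x)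
    · refine key ((cy_alt H.hM hn fun h3 h4 => h2 ⟨h3, h4⟩).of_equiv (MulEquiv.ofBijective (pr e) ⟨?_, pr_surjective e⟩).symm)
      rwa [← MonoidHom.ker_eq_bot_iff, pr_ker, ← card_eq_one]
  by_cases h2 : Nat.card (center X) = 2
  · obtain ⟨π, z, h3, h4⟩ := SporadicRecognition.AltCover.exists_isCover (S2493.nonsplit hc h2 e)
    exact key (cy_spin H.hM hn (fun h => h0 (by rw [h, h2])) h3 h4)
  have hpos : 0 < Nat.card (center X) := Nat.card_pos
  have h67 : n = 6 ∨ n = 7 := by
    by_contra h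
    have := S0892.result n (by omega) (by omega) (by omega) (center X) le_rfl (hc ▸ le_top) e
    omega
  have h6 := card_center_dvd_six hq h67 e
  have h7 := Nat.le_of_dvd (by norm_num) h6
  have h3 : 3 ∣ Nat.card (center X) := by
    generalize Nat.card (center X) = k at *
    interval_cases k <;> omega
  by_cases h4 : p = 2
  · subst h4
    exact key (cy_three H.hM h67 hc e (by omega))
  have h5 : Nat.card D ∣ 6 * 2520 := (card_subgroup_dvd_card D).trans (by
    rw [card_eq e]
    exact mul_dvd_mul h6 (card_alt_dvd h67))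
  have h8 := S0908.result p M H.hM b H.hb D H.hD
  refine H.nc (isCyclic_of_card_dvd_prime (p := p) ?_)
  rw [h8] at h5 ⊢
  by_contra h9
  have h10 : p ^ 2 ∣ 105 * 12 ^ 2 := (pow_dvd_pow p (by
    by_contra h
    exact h9 (by simpa using pow_dvd_pow p (show blockDefect p b ≤ 1 by omega)))).trans h5
  have h11 : ¬ p ∣ 12 := fun h => by
    rcases (hp.out.dvd_mul (m := 2 ^ 2) (n := 3)).1 h with h | h
    · exact h4 ((Nat.prime_dvd_prime_iff_eq hp.out Nat.prime_two).1 (hp.out.dvd_of_dvd_pow h))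
    · exact h0 (h.trans h3)
  have h12 : p ^ 2 ∣ 105 := (Nat.Coprime.pow 2 2 (hp.out.coprime_iff_not_dvd.2 h11)).dvd_of_dvd_mul_right h10
  have h13 := Nat.le_of_dvd (by norm_num) h12
  have h14 : p < 11 := by nlinarith
  have h15 := hp.out.two_le
  interval_cases p <;> omega

theorem row_alt : For RowO CAlt := For.rowO rowN_alt

end Cfsg.Agent.OM.Alt
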